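import Mathlib
import Cfsg.Agent.Lib.GoldschmidtFusion
set_option linter.all false

/-!
# 2-groups `S = AB` of type `L₃(q)`, `Sp₄(q)`

Elementary properties of a group `S = AB`, `A`, `B` elementary abelian, `A ∩ B = Z(S) = S'`, all
involutions in `A ∪ B`, `C_S(a) = A` for `a ∈ A ∖ B`, `C_S(b) = B` for `b ∈ B ∖ A`.
-/

set_option autoImplicit false

namespace Cfsg.Agent.TypeL3

open Subgroup Cfsg.Agent.Lib.GoldschmidtFusion
open scoped commutatorElement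

variable {G : Type*} [Group G]

/-- a 2-group `S = AB` behaving like the Sylow 2-subgroup of `L₃(q)` or `Sp₄(q)`, `q` even, `q ≥ 4` -/
structure IsAB (S A B : Subgroup G) : Prop where
  A_le : A ≤ S
  B_le : B ≤ S
  prod : ∀ s ∈ S, ∃ a ∈ A, ∃ b ∈ B, a * b = s
  A_comm : ∀ x ∈ A, ∀ y ∈ A, x * y = y * x
  B_comm : ∀ x ∈ B, ∀ y ∈ B, x * y = y * x
  A_sq : ∀ x ∈ A, x * x = 1
  B_sq : ∀ x ∈ B, x * x = 1
  br : ∀ a ∈ A, ∀ b ∈ B, a * b * a⁻¹ * b⁻¹ ∈ A ⊓ B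
  inv : ∀ s ∈ S, s * s = 1 → s ∈ A ∨ s ∈ B
  centA : ∀ a ∈ A, a ∉ B → ∀ s ∈ S, a * s = s * a → s ∈ A
  centB : ∀ b ∈ B, b ∉ A → ∀ s ∈ S, b * s = s * b → s ∈ B
  der : A ⊓ B ≤ ⁅S, S⁆
  neA : ∃ a ∈ A, a ∉ B
  neB : ∃ b ∈ B, b ∉ A

namespace IsAB

variable {S A B : Subgroup G}

theorem symm (h : IsAB S A B) : IsAB S B A where
  A_le := h.B_le
  B_le := h.A_le
  prod := by
    intro s hs
    obtain ⟨a, ha, b, hb, e⟩ := h.prod s⁻¹ (inv_mem hs)
    exact ⟨b⁻¹, inv_mem hb, a⁻¹, inv_mem ha, by rw [← mul_inv_rev, e, inv_inv]⟩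
  A_comm := h.B_comm
  B_comm := h.A_comm
  A_sq := h.B_sq
  B_sq := h.A_sq
  br := by
    intro b hb a ha
    have h1 := inv_mem (h.br a ha b hb)
    rw [inf_comm]
    convert h1 using 1
    group
  inv := fun s hs h2 => (h.inv s hs h2).symm
  centA := h.centB
  centB := h.centA
  der := by rw [inf_comm]; exact h.der
  neA := h.neB
  neB := h.neA

theorem Z_le (h : IsAB S A B) : A ⊓ B ≤ S := inf_le_left.trans h.A_le

theorem comm_Z (h : IsAB S A B) {z : G} (hz : z ∈ A ⊓ B) {s : G} (hs : s ∈ S) : z * s = s * z := by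
  obtain ⟨a, ha, b, hb, rfl⟩ := h.prod s hs
  have h1 := h.A_comm z (mem_inf.1 hz).1 a ha
  have h2 := h.B_comm z (mem_inf.1 hz).2 b hb
  calc z * (a * b) = (z * a) * b := by group
    _ = a * (z * b) := by rw [h1]; group
    _ = a * b * z := by rw [h2]; group

/-- commutators of `S` lie in `Z = A ⊓ B` -/
theorem exists_comm (h : IsAB S A B) {x y : G} (hx : x ∈ S) (hy : y ∈ S) :
    ∃ z ∈ A ⊓ B, x * y = y * x * z := by
  obtain ⟨a, ha, b, hb, rfl⟩ := h.prod x hx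
  obtain ⟨c, hc, d, hd, rfl⟩ := h.prod y hy
  -- `b c = c b z₁`, `d a = a d z₂`
  have hz1 := inv_mem (h.br c hc b hb)
  have hz2 := inv_mem (h.br a ha d hd)
  set z1 := (c * b * c⁻¹ * b⁻¹)⁻¹ with e1
  set z2 := (a * d * a⁻¹ * d⁻¹)⁻¹ with e2
  have hb' := h.B_le hb
  have ha' := h.A_le ha
  have hc' := h.A_le hc
  have hd' := h.B_le hd
  have f1 : b * c = c * b * z1 := by
    rw [← h.comm_Z hz1 (mul_mem hc' hb'), e1]; group
  have f2 : d * a = a * d * z2 := by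
    rw [← h.comm_Z hz2 (mul_mem ha' hd'), e2]; group
  refine ⟨z1 * z2⁻¹, mul_mem hz1 (inv_mem hz2), ?_⟩
  have g1 : a * b * (c * d) = a * c * (b * d) * z1 := by
    calc a * b * (c * d) = a * (b * c) * d := by group
      _ = a * c * b * (z1 * d) := by rw [f1]; group
      _ = a * c * (b * d) * z1 := by rw [h.comm_Z hz1 hd']; group
  have g2 : c * d * (a * b) = a * c * (b * d) * z2 := by
    calc c * d * (a * b) = c * (d * a) * b := by group
      _ = (c * a) * d * (z2 * b) := by rw [f2]; group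
      _ = (c * a) * (d * b) * z2 := by rw [h.comm_Z hz2 hb']; group
      _ = a * c * (b * d) * z2 := by rw [h.A_comm c hc a ha, h.B_comm d hd b hb]
  rw [g1, g2]
  have : a * c * (b * d) * z2 * (z1 * z2⁻¹) = a * c * (b * d) * (z2 * z1) * z2⁻¹ := by group
  rw [this, h.comm_Z hz2 (h.Z_le hz1)]
  group

theorem comm_mem (h : IsAB S A B) {x y : G} (hx : x ∈ S) (hy : y ∈ S) :
    x * y * x⁻¹ * y⁻¹ ∈ A ⊓ B := by
  obtain ⟨z, hz, e⟩ := h.exists_comm hx hy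
  have : x * y * x⁻¹ * y⁻¹ = z := by
    rw [e, mul_assoc (y * x), h.comm_Z hz (inv_mem hx), mul_assoc (y * x), mul_assoc x⁻¹,
      h.comm_Z hz (inv_mem hy)]
    group
  rw [this]; exact hz

/-- a subgroup of `S` containing `Z` is normalised by `S` -/
theorem conj_mem (h : IsAB S A B) {X : Subgroup G} (hX : A ⊓ B ≤ X) (hXS : X ≤ S) {s x : G} (hs : s ∈ S)
    (hx : x ∈ X) : s * x * s⁻¹ ∈ X := by
  have h1 := h.comm_mem hs (hXS hx)
  have h2 := mul_mem (hX h1) hx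
  convert h2 using 1
  group

theorem le_normalizer (h : IsAB S A B) {X : Subgroup G} (hX : A ⊓ B ≤ X) (hXS : X ≤ S) :
    S ≤ normalizer (X : Set G) := by
  intro s hs
  rw [mem_normalizer_iff_map_conj]
  apply le_antisymm
  · rintro _ ⟨x, hx, rfl⟩
    exact h.conj_mem hX hXS hs hx
  · intro x hx
    rw [mem_map_conj]
    have := h.conj_mem hX hXS (inv_mem hs) hx
    simpa using this

theorem S_le_normalizer_A (h : IsAB S A B) : S ≤ normalizer (A : Set G) := h.le_normalizer inf_le_left h.A_le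
theorem S_le_normalizer_B (h : IsAB S A B) : S ≤ normalizer (B : Set G) := h.le_normalizer inf_le_right h.B_le
theorem S_le_normalizer_Z (h : IsAB S A B) : S ≤ normalizer ((A ⊓ B : Subgroup G) : Set G) :=
  h.le_normalizer le_rfl h.Z_le

theorem commutator_le (h : IsAB S A B) : ⁅S, S⁆ ≤ A ⊓ B := by
  rw [Subgroup.commutator_le]
  intro x hx y hy
  exact h.comm_mem hx hy

theorem commutator_eq (h : IsAB S A B) : ⁅S, S⁆ = A ⊓ B := le_antisymm h.commutator_le h.der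

/-- `Z = A ⊓ B` is the centre of `S` -/
theorem mem_Z_of_comm (h : IsAB S A B) {s : G} (hs : s ∈ S) (hc : ∀ t ∈ S, t * s = s * t) : s ∈ A ⊓ B := by
  obtain ⟨a, ha, ha'⟩ := h.neA
  obtain ⟨b, hb, hb'⟩ := h.neB
  exact mem_inf.2 ⟨h.centA a ha ha' s hs (hc a (h.A_le ha)), h.centB b hb hb' s hs (hc b (h.B_le hb))⟩

theorem Z_ne_bot (h : IsAB S A B) : A ⊓ B ≠ ⊥ := by
  intro h0
  obtain ⟨b, hb, hb'⟩ := h.neB
  obtain ⟨a, ha, ha'⟩ := h.neA
  apply hb'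
  apply h.centA a ha ha' b (h.B_le hb)
  have h1 := h.br a ha b hb
  rw [h0, mem_bot] at h1
  have : a * b = b * a := by
    have := congrArg (fun t => t * b * a) h1
    simpa [mul_assoc] using this
  exact this

theorem not_comm (h : IsAB S A B) : ¬ ∀ x ∈ S, ∀ y ∈ S, x * y = y * x := by
  intro hc
  obtain ⟨a, ha, ha'⟩ := h.neA
  obtain ⟨b, hb, hb'⟩ := h.neB
  exact hb' (h.centA a ha ha' b (h.B_le hb) (hc a (h.A_le ha) b (h.B_le hb)))

theorem le_or_le (h : IsAB S A B) {E : Subgroup G} (hE : E ≤ S) (hsq : ∀ e ∈ E, e * e = 1) :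
    E ≤ A ∨ E ≤ B := by
  by_contra hcon
  push Not at hcon
  obtain ⟨h1, h2⟩ := hcon
  obtain ⟨x, hx, hxA⟩ := SetLike.not_le_iff_exists.1 h1
  obtain ⟨y, hy, hyB⟩ := SetLike.not_le_iff_exists.1 h2
  have hxB : x ∈ B := (h.inv x (hE hx) (hsq x hx)).resolve_left hxA
  have hyA : y ∈ A := (h.inv y (hE hy) (hsq y hy)).resolve_right hyB
  rcases h.inv (x * y) (hE (mul_mem hx hy)) (hsq _ (mul_mem hx hy)) with h3 | h3
  · exact hxA (by simpa using mul_mem h3 (inv_mem hyA))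
  · exact hyB (by simpa using mul_mem (inv_mem hxB) h3)

/-- an involution of `S` commuting with an element outside `A ∪ B` lies in `Z` -/
theorem mem_Z_of_comm_out (h : IsAB S A B) {s w : G} (hs : s ∈ S) (hsA : s ∉ A) (hsB : s ∉ B) (hw : w ∈ S)
    (hw2 : w * w = 1) (hc : w * s = s * w) : w ∈ A ⊓ B := by
  rcases h.inv w hw hw2 with h1 | h1
  · by_cases h2 : w ∈ B
    · exact mem_inf.2 ⟨h1, h2⟩
    · exact absurd (h.centA w h1 h2 s hs hc) hsA
  · by_cases h2 : w ∈ A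
    · exact mem_inf.2 ⟨h2, h1⟩
    · exact absurd (h.centB w h1 h2 s hs hc) hsB

/-- a subgroup contained neither in `A` nor in `B` has an element outside `A ∪ B` -/
theorem exists_out {X : Subgroup G} (hA : ¬ X ≤ A) (hB : ¬ X ≤ B) : ∃ s ∈ X, s ∉ A ∧ s ∉ B := by
  obtain ⟨x, hx, hxA⟩ := SetLike.not_le_iff_exists.1 hA
  obtain ⟨y, hy, hyB⟩ := SetLike.not_le_iff_exists.1 hB
  by_cases hxB : x ∈ B
  · by_cases hyA : y ∈ A
    · refine ⟨x * y, mul_mem hx hy, ?_, ?_⟩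
      · intro h3; exact hxA (by simpa using mul_mem h3 (inv_mem hyA))
      · intro h3; exact hyB (by simpa using mul_mem (inv_mem hxB) h3)
    · exact ⟨y, hy, hyA, hyB⟩
  · exact ⟨x, hx, hxA, hxB⟩

/-- if `Z ≤ X ≤ S` and `X` is contained neither in `A` nor in `B` then `N(X) ≤ N(Z)` -/
theorem normalizer_le_of_not_le (h : IsAB S A B) [Finite G] {X : Subgroup G} (hXS : X ≤ S) (hZX : A ⊓ B ≤ X)
    (hA : ¬ X ≤ A) (hB : ¬ X ≤ B) : normalizer (X : Set G) ≤ normalizer ((A ⊓ B : Subgroup G) : Set G) := by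
  obtain ⟨s, hsX, hsA, hsB⟩ := exists_out hA hB
  intro g hg
  rw [mem_normalizer_iff_map_conj]
  have hle : (A ⊓ B).map (MulAut.conj g).toMonoidHom ≤ A ⊓ B := by
    rintro _ ⟨z, hz, rfl⟩
    have hgX := mem_normalizer_iff_map_conj.1 hg
    have hw : g * z * g⁻¹ ∈ X := by
      have := conj_mem_map_conj (hZX hz) g
      rwa [hgX] at this
    have hs' : g⁻¹ * s * g ∈ X := by
      rw [← mem_map_conj, hgX]; exact hsX
    refine h.mem_Z_of_comm_out (hXS hsX) hsA hsB (hXS hw) ?_ ?_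
    · have := h.A_sq z (mem_inf.1 hz).1
      calc g * z * g⁻¹ * (g * z * g⁻¹) = g * (z * z) * g⁻¹ := by group
        _ = 1 := by rw [this]; group
    · have := h.comm_Z hz (hXS hs')
      calc g * z * g⁻¹ * s = g * (z * (g⁻¹ * s * g)) * g⁻¹ := by group
        _ = s * (g * z * g⁻¹) := by rw [this]; group
  apply Subgroup.eq_of_le_of_card_ge hle
  rw [card_map_conj]

section Map

variable {H : Type*} [Group H]

theorem inj_of_ker {S : Subgroup G} {f : G →* H} (hf : ∀ x ∈ S, f x = 1 → x = 1) {x y : G} (hx : x ∈ S)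
    (hy : y ∈ S) (e : f x = f y) : x = y := by
  have h1 : f (x * y⁻¹) = 1 := by rw [map_mul, map_inv, e, mul_inv_cancel]
  exact mul_inv_eq_one.1 (hf _ (mul_mem hx (inv_mem hy)) h1)

theorem map_inf_of_ker {S A B : Subgroup G} (hA : A ≤ S) (hB : B ≤ S) {f : G →* H}
    (hf : ∀ x ∈ S, f x = 1 → x = 1) : A.map f ⊓ B.map f = (A ⊓ B).map f := by
  apply le_antisymm
  · rintro _ ⟨⟨a, ha, rfl⟩, ⟨b, hb, hab⟩⟩
    have : b = a := inj_of_ker hf (hB hb) (hA ha) hab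
    subst this
    exact ⟨b, mem_inf.2 ⟨ha, hb⟩, rfl⟩
  · exact Subgroup.map_inf_le A B f

/-- image under a homomorphism injective on `S` -/
theorem map (h : IsAB S A B) (f : G →* H) (hf : ∀ x ∈ S, f x = 1 → x = 1) :
    IsAB (S.map f) (A.map f) (B.map f) := by
  have hinf := map_inf_of_ker h.A_le h.B_le hf
  refine ⟨Subgroup.map_mono h.A_le, Subgroup.map_mono h.B_le, ?_, ?_, ?_, ?_, ?_, ?_, ?_, ?_, ?_, ?_, ?_, ?_⟩
  · rintro _ ⟨s, hs, rfl⟩
    obtain ⟨a, ha, b, hb, rfl⟩ := h.prod s hs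
    exact ⟨_, ⟨a, ha, rfl⟩, _, ⟨b, hb, rfl⟩, (map_mul _ _ _).symm⟩
  · rintro _ ⟨x, hx, rfl⟩ _ ⟨y, hy, rfl⟩
    rw [← map_mul, h.A_comm x hx y hy, map_mul]
  · rintro _ ⟨x, hx, rfl⟩ _ ⟨y, hy, rfl⟩
    rw [← map_mul, h.B_comm x hx y hy, map_mul]
  · rintro _ ⟨x, hx, rfl⟩
    rw [← map_mul, h.A_sq x hx, map_one]
  · rintro _ ⟨x, hx, rfl⟩
    rw [← map_mul, h.B_sq x hx, map_one]
  · rintro _ ⟨a, ha, rfl⟩ _ ⟨b, hb, rfl⟩
    rw [hinf]
    exact ⟨_, h.br a ha b hb, by simp only [map_mul, map_inv]⟩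
  · rintro _ ⟨s, hs, rfl⟩ h2
    rw [← map_mul] at h2
    rcases h.inv s hs (hf _ (mul_mem hs hs) h2) with h3 | h3
    · exact Or.inl ⟨s, h3, rfl⟩
    · exact Or.inr ⟨s, h3, rfl⟩
  · rintro _ ⟨a, ha, rfl⟩ hab _ ⟨s, hs, rfl⟩ hc
    rw [← map_mul, ← map_mul] at hc
    refine ⟨s, h.centA a ha (fun h1 => hab ⟨a, h1, rfl⟩) s hs
      (inj_of_ker hf (mul_mem (h.A_le ha) hs) (mul_mem hs (h.A_le ha)) hc), rfl⟩
  · rintro _ ⟨a, ha, rfl⟩ hab _ ⟨s, hs, rfl⟩ hc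
    rw [← map_mul, ← map_mul] at hc
    refine ⟨s, h.centB a ha (fun h1 => hab ⟨a, h1, rfl⟩) s hs
      (inj_of_ker hf (mul_mem (h.B_le ha) hs) (mul_mem hs (h.B_le ha)) hc), rfl⟩
  · rw [hinf, ← Subgroup.map_commutator]
    exact Subgroup.map_mono h.der
  · obtain ⟨a, ha, ha'⟩ := h.neA
    refine ⟨_, ⟨a, ha, rfl⟩, ?_⟩
    rintro ⟨b, hb, hab⟩
    exact ha' (inj_of_ker hf (h.B_le hb) (h.A_le ha) hab ▸ hb)
  · obtain ⟨a, ha, ha'⟩ := h.neB
    refine ⟨_, ⟨a, ha, rfl⟩, ?_⟩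
    rintro ⟨b, hb, hab⟩
    exact ha' (inj_of_ker hf (h.A_le hb) (h.B_le ha) hab ▸ hb)

/-- the structure is inherited by a preimage -/
theorem of_map {S A B : Subgroup H} (hAS : A ≤ S) (hBS : B ≤ S) (f : H →* G) (hf : ∀ x ∈ S, f x = 1 → x = 1)
    (h : IsAB (S.map f) (A.map f) (B.map f)) : IsAB S A B := by
  have hinf := map_inf_of_ker hAS hBS hf
  have key : ∀ {X : Subgroup H} {x : H}, X ≤ S → x ∈ S → f x ∈ X.map f → x ∈ X := by
    rintro X x hX hx ⟨y, hy, e⟩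
    exact inj_of_ker hf (hX hy) hx e ▸ hy
  refine ⟨hAS, hBS, ?_, ?_, ?_, ?_, ?_, ?_, ?_, ?_, ?_, ?_, ?_, ?_⟩
  · intro s hs
    obtain ⟨_, ⟨a, ha, rfl⟩, _, ⟨b, hb, rfl⟩, e⟩ := h.prod _ ⟨s, hs, rfl⟩
    refine ⟨a, ha, b, hb, inj_of_ker hf (mul_mem (hAS ha) (hBS hb)) hs ?_⟩
    rw [map_mul]; exact e
  · intro x hx y hy
    apply inj_of_ker hf (mul_mem (hAS hx) (hAS hy)) (mul_mem (hAS hy) (hAS hx))
    rw [map_mul, map_mul]
    exact h.A_comm _ ⟨x, hx, rfl⟩ _ ⟨y, hy, rfl⟩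
  · intro x hx y hy
    apply inj_of_ker hf (mul_mem (hBS hx) (hBS hy)) (mul_mem (hBS hy) (hBS hx))
    rw [map_mul, map_mul]
    exact h.B_comm _ ⟨x, hx, rfl⟩ _ ⟨y, hy, rfl⟩
  · intro x hx
    apply hf _ (mul_mem (hAS hx) (hAS hx))
    rw [map_mul]
    exact h.A_sq _ ⟨x, hx, rfl⟩
  · intro x hx
    apply hf _ (mul_mem (hBS hx) (hBS hx))
    rw [map_mul]
    exact h.B_sq _ ⟨x, hx, rfl⟩
  · intro a ha b hb
    have h1 := h.br _ ⟨a, ha, rfl⟩ _ ⟨b, hb, rfl⟩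
    rw [hinf, ← map_mul, ← map_inv, ← map_mul, ← map_inv, ← map_mul] at h1
    refine key (inf_le_left.trans hAS) ?_ h1
    exact mul_mem (mul_mem (mul_mem (hAS ha) (hBS hb)) (inv_mem (hAS ha))) (inv_mem (hBS hb))
  · intro s hs h2
    have h3 := h.inv _ ⟨s, hs, rfl⟩ (by rw [← map_mul, h2, map_one])
    rcases h3 with h3 | h3
    · exact Or.inl (key hAS hs h3)
    · exact Or.inr (key hBS hs h3)
  · intro a ha hab s hs hc
    apply key hAS hs
    refine h.centA _ ⟨a, ha, rfl⟩ (fun h1 => hab (key hBS (hAS ha) h1)) _ ⟨s, hs, rfl⟩ ?_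
    rw [← map_mul, hc, map_mul]
  · intro a ha hab s hs hc
    apply key hBS hs
    refine h.centB _ ⟨a, ha, rfl⟩ (fun h1 => hab (key hAS (hBS ha) h1)) _ ⟨s, hs, rfl⟩ ?_
    rw [← map_mul, hc, map_mul]
  · intro z hz
    have h1 : f z ∈ (⁅S, S⁆ : Subgroup H).map f := by
      rw [Subgroup.map_commutator]
      apply h.der
      rw [hinf]
      exact ⟨z, hz, rfl⟩
    refine key ?_ (hAS (mem_inf.1 hz).1) h1
    rw [Subgroup.commutator_le]
    intro x hx y hy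
    exact mul_mem (mul_mem (mul_mem hx hy) (inv_mem hx)) (inv_mem hy)
  · obtain ⟨_, ⟨a, ha, rfl⟩, ha'⟩ := h.neA
    exact ⟨a, ha, fun h1 => ha' ⟨a, h1, rfl⟩⟩
  · obtain ⟨_, ⟨a, ha, rfl⟩, ha'⟩ := h.neB
    exact ⟨a, ha, fun h1 => ha' ⟨a, h1, rfl⟩⟩

theorem map_conj (h : IsAB S A B) (g : G) : IsAB (S.map (MulAut.conj g).toMonoidHom)
    (A.map (MulAut.conj g).toMonoidHom) (B.map (MulAut.conj g).toMonoidHom) :=
  h.map _ (fun _ _ hx => (MulAut.conj g).injective (hx.trans (map_one (MulAut.conj g)).symm))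

/-- restriction to a subgroup containing `S` -/
theorem subgroupOf (h : IsAB S A B) {C : Subgroup G} (hSC : S ≤ C) :
    IsAB (S.subgroupOf C) (A.subgroupOf C) (B.subgroupOf C) := by
  refine of_map (Subgroup.comap_mono h.A_le) (Subgroup.comap_mono h.B_le) C.subtype
    (fun _ _ hx => C.subtype_injective (hx.trans (map_one _).symm)) ?_
  rw [Subgroup.map_subgroupOf_eq_of_le hSC, Subgroup.map_subgroupOf_eq_of_le (h.A_le.trans hSC),
    Subgroup.map_subgroupOf_eq_of_le (h.B_le.trans hSC)]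
  exact h

end Map

end IsAB

end Cfsg.Agent.TypeL3
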