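import Mathlib
import Cfsg.Agent.TypeL3.Basic
set_option linter.all false

/-!
# Fusion in groups with Sylow 2-subgroup `S = AB`

`gen_AB`: fusion is generated by `N(S)`, `N(A)`, `N(B)`; `control`: if `N(A)` and `N(B)` normalise
`Z = A ∩ B` then `N(S)` controls (strong) fusion.
-/

set_option autoImplicit false

namespace Cfsg.Agent.TypeL3

open Subgroup Cfsg.Agent.Lib.GoldschmidtFusion
open scoped commutatorElement

variable {G : Type*} [Group G]

theorem _root_.Cfsg.Agent.Lib.GoldschmidtFusion.Gen.weaken {P : Subgroup G} {F F' : Subgroup G → Prop}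
    (hFF : ∀ X : Subgroup G, X ≤ P → F X → ∀ g ∈ normalizer (X : Set G), Gen P F' X g)
    {A : Subgroup G} {g : G} (h : Gen P F A g) : Gen P F' A g := by
  induction h with
  | cent hA hc => exact Gen.cent hA hc
  | base hX hF hAX hg => exact (hFF _ hX hF _ hg).mono hAX
  | mul _ _ ih1 ih2 => exact Gen.mul ih1 ih2

section Sylow

variable [Finite G] {p : ℕ} [hp : Fact p.Prime]

/-- `R = S C` when `R / C` is a `p`-group and `S ≤ R` is a Sylow `p`-subgroup. -/
theorem exists_mul_of_pow_mem (S : Sylow p G) {R C : Subgroup G} (hSR : (S : Subgroup G) ≤ R)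
    (hn : ∀ r ∈ R, ∀ c ∈ C, r * c * r⁻¹ ∈ C) (hpow : ∀ r ∈ R, ∃ k : ℕ, r ^ p ^ k ∈ C) {r : G} (hr : r ∈ R) :
    ∃ s ∈ (S : Subgroup G), ∃ c ∈ C, r = s * c := by
  have hnorm : (C.subgroupOf R).Normal := by
    refine ⟨fun n hn' g => ?_⟩
    rw [mem_subgroupOf] at hn' ⊢
    exact hn g g.2 n hn'
  let S' : Sylow p R := S.subtype hSR
  let π := QuotientGroup.mk' (C.subgroupOf R)
  have hπ : Function.Surjective π := QuotientGroup.mk'_surjective _
  let Q := S'.mapSurjective hπ
  have hpg : IsPGroup p (⊤ : Subgroup (R ⧸ C.subgroupOf R)) := by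
    rintro ⟨x, -⟩
    obtain ⟨y, rfl⟩ := hπ x
    obtain ⟨k, hk⟩ := hpow y y.2
    refine ⟨k, ?_⟩
    apply Subtype.ext
    show π y ^ p ^ k = 1
    rw [← map_pow]
    exact (QuotientGroup.eq_one_iff _).2 (by rw [mem_subgroupOf]; simpa using hk)
  have hQ : (⊤ : Subgroup (R ⧸ C.subgroupOf R)) = Q := Q.is_maximal' hpg le_top
  have h1 : π ⟨r, hr⟩ ∈ (Q : Subgroup _) := by rw [← hQ]; trivial
  obtain ⟨s, hs, e⟩ := h1
  have hs' : (s : G) ∈ (S : Subgroup G) := hs
  have h2 : s⁻¹ * (⟨r, hr⟩ : R) ∈ C.subgroupOf R := QuotientGroup.eq.1 e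
  rw [mem_subgroupOf] at h2
  exact ⟨s, hs', (s : G)⁻¹ * r, by simpa using h2, by group⟩

theorem sylow_not_dvd_relIndex (S : Sylow p G) {R : Subgroup G} (hSR : (S : Subgroup G) ≤ R) :
    ¬ p ∣ (S : Subgroup G).relIndex R :=
  fun h => S.not_dvd_index (h.trans (relIndex_dvd_index_of_le hSR))

/-- Frattini inside a normalised subgroup `R` containing the Sylow subgroup `S` -/
theorem exists_conj_normalizer (S : Sylow p G) {R : Subgroup G} (hSR : (S : Subgroup G) ≤ R) {g : G}
    (hg : ∀ r ∈ R, g * r * g⁻¹ ∈ R) : ∃ r ∈ R, r * g ∈ normalizer ((S : Subgroup G) : Set G) := by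
  have hle : (S : Subgroup G).map (MulAut.conj g).toMonoidHom ≤ R := by
    rintro _ ⟨s, hs, rfl⟩
    exact hg s (hSR hs)
  obtain ⟨r, hr, hrle⟩ := exists_conj_le_in (p := p) S.isPGroup' (sylow_not_dvd_relIndex S hSR) hle
    (S.isPGroup'.map _)
  rw [map_conj_map_conj] at hrle
  exact ⟨r, hr, mem_normalizer_iff_map_conj.2 (map_conj_le_of_le_normalizer hrle)⟩

end Sylow

namespace IsAB

variable {A B : Subgroup G}

section

variable [Finite G]

theorem normalizer_le_A {S : Sylow 2 G} (h : IsAB (S : Subgroup G) A B) :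
    normalizer ((S : Subgroup G) : Set G) ≤ normalizer (A : Set G) := by
  intro g hg
  have hSA := h.S_le_normalizer_A
  -- each element of `N(S)` fixes or swaps `{A, B}`
  have key : ∀ g ∈ normalizer ((S : Subgroup G) : Set G), A.map (MulAut.conj g).toMonoidHom = A ∨
      A.map (MulAut.conj g).toMonoidHom = B := by
    intro g hg
    have hgS := mem_normalizer_iff_map_conj.1 hg
    have hAg : A.map (MulAut.conj g).toMonoidHom ≤ S := (map_conj_mono h.A_le g).trans hgS.le
    have hBg : B.map (MulAut.conj g).toMonoidHom ≤ S := (map_conj_mono h.B_le g).trans hgS.le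
    have hAsq : ∀ e ∈ A.map (MulAut.conj g).toMonoidHom, e * e = 1 := by
      rintro _ ⟨a, ha, rfl⟩
      rw [← map_mul, h.A_sq a ha, map_one]
    rcases h.le_or_le hAg hAsq with h1 | h1
    · exact Or.inl (Subgroup.eq_of_le_of_card_ge h1 (by rw [card_map_conj]))
    · right
      -- `B^{g⁻¹}` contains `A`
      have h2 : A ≤ B.map (MulAut.conj g⁻¹).toMonoidHom := by
        have := map_conj_mono h1 g⁻¹
        rwa [map_conj_map_conj, inv_mul_cancel, map_conj_one] at this
      have hBg' : B.map (MulAut.conj g⁻¹).toMonoidHom ≤ S := by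
        have h3 := mem_normalizer_iff_map_conj.1 (inv_mem hg)
        exact (map_conj_mono h.B_le g⁻¹).trans h3.le
      have hBsq : ∀ e ∈ B.map (MulAut.conj g⁻¹).toMonoidHom, e * e = 1 := by
        rintro _ ⟨b, hb, rfl⟩
        rw [← map_mul, h.B_sq b hb, map_one]
      rcases h.le_or_le hBg' hBsq with h3 | h3
      · have h4 : B.map (MulAut.conj g⁻¹).toMonoidHom = A := le_antisymm h3 h2
        rw [← h4, map_conj_map_conj, mul_inv_cancel, map_conj_one]
      · obtain ⟨a, ha, ha'⟩ := h.neA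
        exact absurd (h3 (h2 ha)) ha'
  have hsq : g * g ∈ normalizer (A : Set G) := by
    rw [mem_normalizer_iff_map_conj, ← map_conj_map_conj]
    rcases key g hg with h1 | h1
    · rw [h1, h1]
    · rw [h1]
      rcases key (g * g) (mul_mem hg hg) with h2 | h2
      · rw [← map_conj_map_conj, h1] at h2; exact h2
      · rw [← map_conj_map_conj, h1] at h2
        -- then `B^g = B` and `A^g = B`
        have h3 : A = B := Subgroup.map_injective (MulAut.conj g).injective (h1.trans h2.symm)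
        obtain ⟨a, ha, ha'⟩ := h.neA
        exact absurd (h3 ▸ ha) ha'
  -- an odd power of `g` lies in `S`
  have hodd : ∃ k : ℕ, g ^ (2 * k + 1) ∈ (S : Subgroup G) := by
    set m := (S : Subgroup G).relIndex (normalizer ((S : Subgroup G) : Set G)) with hm
    have hmodd : ¬ 2 ∣ m := sylow_not_dvd_relIndex S Subgroup.le_normalizer
    have hmem : g ^ m ∈ (S : Subgroup G) := by
      have hN : ((S : Subgroup G).subgroupOf (normalizer ((S : Subgroup G) : Set G))).Normal :=
        Subgroup.normal_in_normalizer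
      have h1 := Subgroup.pow_index_mem ((S : Subgroup G).subgroupOf (normalizer ((S : Subgroup G) : Set G)))
        (⟨g, hg⟩ : normalizer ((S : Subgroup G) : Set G))
      rw [mem_subgroupOf] at h1
      exact h1
    obtain ⟨k, hk⟩ : Odd m := Nat.not_even_iff_odd.1 (fun he => hmodd he.two_dvd)
    exact ⟨k, by rw [← hk]; exact hmem⟩
  obtain ⟨k, hk⟩ := hodd
  have h1 : g ^ (2 * k + 1) ∈ normalizer (A : Set G) := hSA hk
  have h2 : (g * g) ^ k ∈ normalizer (A : Set G) := pow_mem hsq k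
  have h3 : g = ((g * g) ^ k)⁻¹ * g ^ (2 * k + 1) := by
    rw [← pow_two, ← pow_mul, pow_succ]; group
  rw [h3]
  exact mul_mem (inv_mem h2) h1

theorem normalizer_le_B {S : Sylow 2 G} (h : IsAB (S : Subgroup G) A B) :
    normalizer ((S : Subgroup G) : Set G) ≤ normalizer (B : Set G) := h.symm.normalizer_le_A

theorem normalizer_le_Z {S : Sylow 2 G} (h : IsAB (S : Subgroup G) A B) :
    normalizer ((S : Subgroup G) : Set G) ≤ normalizer ((A ⊓ B : Subgroup G) : Set G) := by
  intro g hg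
  have h1 := mem_normalizer_iff_map_conj.1 (h.normalizer_le_A hg)
  have h2 := mem_normalizer_iff_map_conj.1 (h.normalizer_le_B hg)
  rw [mem_normalizer_iff_map_conj, Subgroup.map_inf A B _ (MulAut.conj g).injective, h1, h2]

/-- the stabiliser of the chain `1 ≤ Z ≤ P` in `N(P)` -/
def chainStab (Z P : Subgroup G) : Subgroup G where
  carrier := {r | r ∈ normalizer (P : Set G) ∧ (∀ z ∈ Z, r * z = z * r) ∧ ∀ x ∈ P, r * x * r⁻¹ * x⁻¹ ∈ Z}
  one_mem' := ⟨one_mem _, fun z _ => by simp, fun x _ => by simp [Z.one_mem]⟩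
  mul_mem' := by
    rintro r s ⟨hr1, hr2, hr3⟩ ⟨hs1, hs2, hs3⟩
    refine ⟨mul_mem hr1 hs1, fun z hz => ?_, fun x hx => ?_⟩
    · rw [mul_assoc, hs2 z hz, ← mul_assoc, hr2 z hz, mul_assoc]
    · have h1 := hs3 x hx
      have h2 := hr3 x hx
      have e : r * s * x * (r * s)⁻¹ * x⁻¹ = r * (s * x * s⁻¹ * x⁻¹) * r⁻¹ * (r * x * r⁻¹ * x⁻¹) := by group
      rw [e, hr2 _ h1, mul_inv_cancel_right]
      exact mul_mem h1 h2
  inv_mem' := by
    rintro r ⟨hr1, hr2, hr3⟩
    refine ⟨inv_mem hr1, fun z hz => ?_, fun x hx => ?_⟩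
    · have := hr2 z hz
      calc r⁻¹ * z = r⁻¹ * (z * r) * r⁻¹ := by group
        _ = z * r⁻¹ := by rw [← this]; group
    · have hy : r⁻¹ * x * r ∈ P := by
        rw [← mem_map_conj, mem_normalizer_iff_map_conj.1 hr1]; exact hx
      have h1 := inv_mem (hr3 _ hy)
      convert h1 using 1
      group

theorem exists_normalizer_mul {S : Sylow 2 G} (h : IsAB (S : Subgroup G) A B) {P : Subgroup G} (hPS : P ≤ S)
    (hZP : A ⊓ B ≤ P) (hN : normalizer (P : Set G) ≤ normalizer ((A ⊓ B : Subgroup G) : Set G)) {g : G}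
    (hg : g ∈ normalizer (P : Set G)) :
    ∃ n ∈ normalizer ((S : Subgroup G) : Set G), ∃ c ∈ centralizer (P : Set G), g = n * c := by
  set R := chainStab (A ⊓ B) P with hR
  have hSR : (S : Subgroup G) ≤ R := fun s hs =>
    ⟨h.le_normalizer hZP hPS hs, fun z hz => (h.comm_Z hz hs).symm, fun x hx => h.comm_mem hs (hPS hx)⟩
  have hCR : centralizer (P : Set G) ≤ R := by
    intro c hc
    refine ⟨centralizer_le_normalizer _ hc, fun z hz => ?_, fun x hx => ?_⟩
    · exact ((mem_centralizer_iff.1 hc) z (hZP hz)).symm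
    · rw [conj_eq_of_mem_centralizer hc hx, mul_inv_cancel]; exact one_mem _
  -- `N(P)` normalises `R`
  have hRn : ∀ g ∈ normalizer (P : Set G), ∀ r ∈ R, g * r * g⁻¹ ∈ R := by
    intro g hg r hr
    obtain ⟨hr1, hr2, hr3⟩ := hr
    have hgZ := mem_normalizer_iff_map_conj.1 (hN hg)
    have hgP := mem_normalizer_iff_map_conj.1 hg
    refine ⟨mul_mem (mul_mem hg hr1) (inv_mem hg), fun z hz => ?_, fun x hx => ?_⟩
    · have hz' : g⁻¹ * z * g ∈ A ⊓ B := by rw [← mem_map_conj, hgZ]; exact hz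
      have := hr2 _ hz'
      calc g * r * g⁻¹ * z = g * (r * (g⁻¹ * z * g)) * g⁻¹ := by group
        _ = z * (g * r * g⁻¹) := by rw [this]; group
    · have hx' : g⁻¹ * x * g ∈ P := by rw [← mem_map_conj, hgP]; exact hx
      have := hr3 _ hx'
      have h2 := conj_mem_map_conj this g
      rw [hgZ] at h2
      convert h2 using 1
      group
  have hpow : ∀ r ∈ R, ∃ k : ℕ, r ^ 2 ^ k ∈ centralizer (P : Set G) := by
    intro r hr
    refine ⟨1, ?_⟩
    rw [pow_one, pow_two, mem_centralizer_iff]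
    intro x hx
    obtain ⟨hr1, hr2, hr3⟩ := hr
    set z := r * x * r⁻¹ * x⁻¹ with hz
    have hzZ : z ∈ A ⊓ B := hr3 x hx
    have e1 : r * x * r⁻¹ = z * x := by rw [hz]; group
    have hzz : z * z = 1 := h.A_sq z (mem_inf.1 hzZ).1
    have e2 : r * r * x * (r * r)⁻¹ = x := by
      calc r * r * x * (r * r)⁻¹ = r * (r * x * r⁻¹) * r⁻¹ := by group
        _ = (r * z) * x * r⁻¹ := by rw [e1]; group
        _ = z * (r * x * r⁻¹) := by rw [hr2 z hzZ]; group
        _ = z * z * x := by rw [e1]; group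
        _ = x := by rw [hzz, one_mul]
    calc x * (r * r) = (r * r * x * (r * r)⁻¹) * (r * r) := by rw [e2]
      _ = r * r * x := by group
  have hCn : ∀ r ∈ R, ∀ c ∈ centralizer (P : Set G), r * c * r⁻¹ ∈ centralizer (P : Set G) := by
    intro r hr c hc
    rw [← mem_normalizer_iff_map_conj.1 hr.1, mem_centralizer_map_conj]
    simpa [mul_assoc] using hc
  obtain ⟨r, hr, hrg⟩ := exists_conj_normalizer S hSR (hRn g hg)
  obtain ⟨s, hs, c, hc, rfl⟩ := exists_mul_of_pow_mem S hSR hCn hpow hr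
  have h1 : c * g ∈ normalizer ((S : Subgroup G) : Set G) := by
    have := mul_mem (inv_mem (Subgroup.le_normalizer hs)) hrg
    simpa [mul_assoc] using this
  refine ⟨c * g, h1, g⁻¹ * c⁻¹ * g, ?_, by group⟩
  rw [← mem_centralizer_map_conj, mem_normalizer_iff_map_conj.1 hg]
  exact inv_mem hc

/-- **Fusion in groups with Sylow 2-subgroup `S = AB`** -/
theorem gen_AB {S : Sylow 2 G} (h : IsAB (S : Subgroup G) A B) {P : Subgroup G} (hP : P ≤ S) {g : G}
    (hg : P.map (MulAut.conj g).toMonoidHom ≤ S) :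
    Gen (S : Subgroup G) (fun X => X = S ∨ X = A ∨ X = B) P g := by
  have h1 := gen_of_conj S (fun X => centralizer (X : Set G) ⊓ (S : Subgroup G) ≤ X) inf_le_right
    (fun X _ _ hX _ => hX) hP hg
  refine h1.weaken ?_
  intro X hXS hX n hn
  have hZX : A ⊓ B ≤ X := by
    refine le_trans ?_ hX
    intro z hz
    refine mem_inf.2 ⟨mem_centralizer_iff.2 fun x hx => ?_, h.Z_le hz⟩
    exact (h.comm_Z hz (hXS hx)).symm
  by_cases hXA : X ≤ A
  · have : X = A := by
      apply le_antisymm hXA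
      refine le_trans ?_ hX
      intro a ha
      exact mem_inf.2 ⟨mem_centralizer_iff.2 fun x hx => h.A_comm x (hXA hx) a ha, h.A_le ha⟩
    exact Gen.base hXS (Or.inr (Or.inl this)) le_rfl hn
  by_cases hXB : X ≤ B
  · have : X = B := by
      apply le_antisymm hXB
      refine le_trans ?_ hX
      intro a ha
      exact mem_inf.2 ⟨mem_centralizer_iff.2 fun x hx => h.B_comm x (hXB hx) a ha, h.B_le ha⟩
    exact Gen.base hXS (Or.inr (Or.inr this)) le_rfl hn
  obtain ⟨m, hm, c, hc, rfl⟩ := h.exists_normalizer_mul hXS hZX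
    (h.normalizer_le_of_not_le hXS hZX hXA hXB) hn
  refine Gen.mul (Gen.cent hXS hc) ?_
  rw [map_conj_of_mem_centralizer hc]
  exact Gen.base le_rfl (Or.inl rfl) hXS hm

/-- If `N(A)` and `N(B)` normalise `Z` then `N(S)` controls fusion. -/
theorem control {S : Sylow 2 G} (h : IsAB (S : Subgroup G) A B)
    (hA : normalizer (A : Set G) ≤ normalizer ((A ⊓ B : Subgroup G) : Set G))
    (hB : normalizer (B : Set G) ≤ normalizer ((A ⊓ B : Subgroup G) : Set G))
    {P : Subgroup G} (hP : P ≤ S) {g : G} (hg : P.map (MulAut.conj g).toMonoidHom ≤ S) :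
    ∃ n ∈ normalizer ((S : Subgroup G) : Set G), ∃ c ∈ centralizer (P : Set G), g = n * c := by
  have h1 := (h.gen_AB hP hg).weaken (F' := fun X => X = (S : Subgroup G)) ?_
  · exact h1.exists_mul (fun X _ hX => by rw [hX])
  · intro X hXS hX n hn
    rcases hX with rfl | rfl | rfl
    · exact Gen.base le_rfl rfl le_rfl hn
    · obtain ⟨m, hm, c, hc, rfl⟩ := h.exists_normalizer_mul hXS inf_le_left hA hn
      refine Gen.mul (Gen.cent hXS hc) ?_
      rw [map_conj_of_mem_centralizer hc]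
      exact Gen.base le_rfl rfl hXS hm
    · obtain ⟨m, hm, c, hc, rfl⟩ := h.exists_normalizer_mul hXS inf_le_right hB hn
      refine Gen.mul (Gen.cent hXS hc) ?_
      rw [map_conj_of_mem_centralizer hc]
      exact Gen.base le_rfl rfl hXS hm

end

end IsAB

end Cfsg.Agent.TypeL3
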