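import Mathlib
import Cfsg.Agent.TypeL3.Fusion
import Cfsg.Agent.FastGrp
import Cfsg.Agent.Prune
set_option linter.all false
prune_inst 0x7f00000000000000000000000000000000000000000000000000000000000000000000000000000000000000000000000000000000000000000000000000000000000000000000000000000000000000003fffffffffffffffffffffffffffbeffbdffffffff
open scoped Cfsg.Agent.FastGrp

/-!
# Control of fusion by the normaliser of a Sylow subgroup is inherited by subgroups

`control_of_pgroup_automizers`: if every automizer `Aut_H(Q)`, `Q ≤ P`, has a normal Sylow `p`-subgroup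
then `N_H(P)` controls fusion. `control_subgroup`: if `N_X(S)` controls (strong) fusion in `X` and `K ≤ X`
is a subgroup such that `S ∩ K` is Sylow in `K` then `N_K(S ∩ K)` controls (strong) fusion in `K`.
-/

set_option autoImplicit false

namespace Cfsg.Agent.TypeL3

open Subgroup Cfsg.Agent.Lib.GoldschmidtFusion

universe u

variable {G : Type*} [Group G] [Finite G] {p : ℕ} [hp : Fact p.Prime]

/-- `N(P)` controls strong fusion in `P` -/
def Controls {G : Type*} [Group G] (P : Subgroup G) : Prop :=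
  ∀ Q : Subgroup G, Q ≤ P → ∀ g : G, Q.map (MulAut.conj g).toMonoidHom ≤ P →
    ∃ n ∈ normalizer (P : Set G), ∃ c ∈ centralizer (Q : Set G), g = n * c

theorem Controls.exists_conj {G : Type*} [Group G] {P : Subgroup G} (h : Controls P) {x g : G} (hx : x ∈ P)
    (hg : g * x * g⁻¹ ∈ P) : ∃ n ∈ normalizer (P : Set G), n * x * n⁻¹ = g * x * g⁻¹ := by
  obtain ⟨n, hn, c, hc, rfl⟩ := h (zpowers x) (zpowers_le.2 hx) g (zpowers_map_conj_le hg)
  refine ⟨n, hn, ?_⟩
  have h1 := conj_eq_of_mem_centralizer hc (mem_zpowers x)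
  calc n * x * n⁻¹ = n * (c * x * c⁻¹) * n⁻¹ := by rw [h1]
    _ = n * c * x * (n * c)⁻¹ := by group

/-- relative version of `exists_mul_of_pow_mem` -/
theorem exists_mul_of_pow_mem' {R T C : Subgroup G} (hT : IsPGroup p T)
    (hi : ¬ p ∣ T.relIndex R) (hn : ∀ r ∈ R, ∀ c ∈ C, r * c * r⁻¹ ∈ C)
    (hpow : ∀ r ∈ R, ∃ k : ℕ, r ^ p ^ k ∈ C) {r : G} (hr : r ∈ R) :
    ∃ s ∈ T, ∃ c ∈ C, r = s * c := by
  have hT' : IsPGroup p (T.subgroupOf R) := hT.comap_of_injective R.subtype R.subtype_injective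
  let S' : Sylow p R := hT'.toSylow hi
  have hpow' : ∀ r ∈ (⊤ : Subgroup R), ∃ k : ℕ, r ^ p ^ k ∈ C.subgroupOf R := by
    intro r _
    obtain ⟨k, hk⟩ := hpow r r.2
    exact ⟨k, by rw [mem_subgroupOf]; simpa using hk⟩
  obtain ⟨s, hs, c, hc, e⟩ := exists_mul_of_pow_mem S' (R := ⊤) (C := C.subgroupOf R) le_top
    (fun r _ c hc => by rw [mem_subgroupOf] at hc ⊢; exact hn r r.2 c hc) hpow' (mem_top (⟨r, hr⟩ : R))
  have hs' : (s : G) ∈ T := by
    have : s ∈ T.subgroupOf R := hs
    rwa [mem_subgroupOf] at this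
  rw [mem_subgroupOf] at hc
  exact ⟨s, hs', c, hc, congrArg Subtype.val e⟩

theorem Gen.card {P : Subgroup G} {F : Subgroup G → Prop} {A : Subgroup G} {g : G} (h : Gen P F A g) :
    Gen P (fun X => F X ∧ Nat.card A ≤ Nat.card X) A g := by
  induction h with
  | cent hA hc => exact Gen.cent hA hc
  | base hX hF hAX hg => exact Gen.base hX ⟨hF, Subgroup.card_le_of_le hAX⟩ hAX hg
  | mul _ _ ih1 ih2 =>
    refine Gen.mul ih1 ?_
    rw [card_map_conj] at ih2
    exact ih2

theorem control_of_pgroup_automizers (P : Sylow p G)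
    (hR : ∀ Q : Subgroup G, Q ≤ P → ∃ R : Subgroup G, (P : Subgroup G) ⊓ normalizer (Q : Set G) ≤ R ∧
      R ≤ normalizer (Q : Set G) ∧ (∀ g ∈ normalizer (Q : Set G), ∀ r ∈ R, g * r * g⁻¹ ∈ R) ∧
      ∀ r ∈ R, ∃ k : ℕ, r ^ p ^ k ∈ centralizer (Q : Set G)) : Controls (P : Subgroup G) := by
  have key : ∀ k : ℕ, ∀ X : Subgroup G, X ≤ P → Nat.card P ≤ Nat.card X + k → ∀ g : G,
      X.map (MulAut.conj g).toMonoidHom ≤ P → Gen (P : Subgroup G) (fun Y => Y = P) X g := by
    intro k
    induction k with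
    | zero =>
      intro X hX hk g hg
      have hXP : X = P := Subgroup.eq_of_le_of_card_ge hX (by simpa using hk)
      rw [hXP] at hg
      have hgN : g ∈ normalizer ((P : Subgroup G) : Set G) :=
        mem_normalizer_iff_map_conj.2 (map_conj_le_of_le_normalizer hg)
      exact Gen.base le_rfl rfl hX hgN
    | succ k ih =>
      intro X hX hk g hg
      have h1 := gen_of_conj P (fun Y => Y = P ∨
        (Y < P ∧ ¬ p ∣ ((P : Subgroup G) ⊓ normalizer (Y : Set G)).relIndex (normalizer (Y : Set G))))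
        (Or.inl rfl) (fun Y hY h1 _ _ => Or.inr ⟨hY, h1⟩) hX hg
      refine (Gen.card h1).weaken ?_
      rintro Y hYP ⟨hY, hcard⟩ m hm
      rcases hY with rfl | ⟨hYlt, hYi⟩
      · exact Gen.base le_rfl rfl le_rfl hm
      obtain ⟨R, hR1, hR2, hR3, hR4⟩ := hR Y hYP
      set T := (P : Subgroup G) ⊓ normalizer (Y : Set G) with hTdef
      have hYT : Y < T := lt_inf_normalizer P.isPGroup' hYlt
      have hTp : IsPGroup p T := P.isPGroup'.to_le inf_le_left
      have hTi : ¬ p ∣ T.relIndex R := by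
        intro hd
        apply hYi
        rw [← relIndex_mul_relIndex T R _ hR1 hR2]
        exact hd.mul_right _
      have hC : ∀ r ∈ R, ∀ c ∈ centralizer (Y : Set G), r * c * r⁻¹ ∈ centralizer (Y : Set G) := by
        intro r hr c hc
        rw [← mem_normalizer_iff_map_conj.1 (hR2 hr), mem_centralizer_map_conj]
        simpa [mul_assoc] using hc
      have hTm : T.map (MulAut.conj m).toMonoidHom ≤ R := by
        rintro _ ⟨t, ht, rfl⟩
        exact hR3 m hm t (hR1 ht)
      obtain ⟨r, hr, hrle⟩ := exists_conj_le_in (p := p) hTp hTi hTm (hTp.map _)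
      rw [map_conj_map_conj] at hrle
      obtain ⟨t, ht, c, hc, rfl⟩ := exists_mul_of_pow_mem' hTp hTi hC hR4 hr
      have hcm : T.map (MulAut.conj (c * m)).toMonoidHom ≤ T := by
        have h2 := map_conj_mono hrle t⁻¹
        rw [map_conj_map_conj, mem_normalizer_iff_map_conj.1 (le_normalizer (inv_mem ht))] at h2
        have e : t⁻¹ * (t * c * m) = c * m := by group
        rwa [e] at h2
      have hcmN : c * m ∈ normalizer (Y : Set G) := mul_mem (centralizer_le_normalizer _ hc) hm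
      have hlt : Nat.card Y < Nat.card T := Set.Finite.card_lt_card (Set.toFinite _) hYT
      have h3 := (ih T inf_le_left (by omega) (c * m) (hcm.trans inf_le_left)).mono hYT.le
      have e : m = c⁻¹ * (c * m) := by group
      rw [e]
      refine Gen.mul h3 ?_
      rw [mem_normalizer_iff_map_conj.1 hcmN]
      exact Gen.cent hYP (inv_mem hc)
  intro Q hQ g hg
  exact (key (Nat.card P) Q hQ (Nat.le_add_left _ _) g hg).exists_mul (fun X _ hX => by rw [hX])

omit [Finite G] in
theorem mem_sup_of_le_normalizer {H N : Subgroup G} (h : H ≤ normalizer (N : Set G)) {x : G} :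
    x ∈ H ⊔ N ↔ ∃ a ∈ H, ∃ b ∈ N, x = a * b := by
  rw [← SetLike.mem_coe, coe_mul_of_left_le_normalizer_right H N h, Set.mem_mul]
  constructor
  · rintro ⟨a, ha, b, hb, rfl⟩; exact ⟨a, ha, b, hb, rfl⟩
  · rintro ⟨a, ha, b, hb, rfl⟩; exact ⟨a, ha, b, hb, rfl⟩

theorem control_subgroup {S : Subgroup G} (hS : IsPGroup p S) (h : Controls S) {K : Subgroup G} (P : Sylow p K)
    (hP : (P : Subgroup K) = S.subgroupOf K) : Controls (P : Subgroup K) := by
  apply control_of_pgroup_automizers
  intro Q hQ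
  set Q' := Q.map K.subtype with hQ'
  have hQ'S : Q' ≤ S := by
    rintro _ ⟨x, hx, rfl⟩
    have := hQ hx
    rw [hP, mem_subgroupOf] at this
    exact this
  have hNQ : ∀ x : K, (x : G) ∈ normalizer (Q' : Set G) ↔ x ∈ normalizer (Q : Set K) := by
    intro x
    rw [mem_normalizer_iff_map_conj, mem_normalizer_iff_map_conj]
    have e : Q'.map (MulAut.conj (x : G)).toMonoidHom = (Q.map (MulAut.conj x).toMonoidHom).map K.subtype := by
      rw [hQ', Subgroup.map_map, Subgroup.map_map]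
      rfl
    rw [e, hQ']
    exact (Subgroup.map_injective K.subtype_injective).eq_iff
  have hCQ : ∀ x : K, (x : G) ∈ centralizer (Q' : Set G) ↔ x ∈ centralizer (Q : Set K) := by
    intro x
    rw [mem_centralizer_iff, mem_centralizer_iff]
    constructor
    · intro h1 y hy
      exact Subtype.ext (h1 y ⟨y, hy, rfl⟩)
    · rintro h1 _ ⟨y, hy, rfl⟩
      exact congrArg Subtype.val (h1 y hy)
  set R' := (S ⊓ normalizer (Q' : Set G)) ⊔ centralizer (Q' : Set G) with hR'
  have hCn : ∀ r ∈ normalizer (Q' : Set G), ∀ c ∈ centralizer (Q' : Set G),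
      r * c * r⁻¹ ∈ centralizer (Q' : Set G) := by
    intro r hr c hc
    rw [← mem_normalizer_iff_map_conj.1 hr, mem_centralizer_map_conj]
    simpa [mul_assoc] using hc
  have hNC : normalizer (Q' : Set G) ≤ normalizer ((centralizer (Q' : Set G) : Subgroup G) : Set G) := by
    intro r hr
    rw [mem_normalizer_iff_map_conj]
    apply le_antisymm
    · rintro _ ⟨c, hc, rfl⟩
      exact hCn r hr c hc
    · intro c hc
      rw [mem_map_conj]
      have := hCn r⁻¹ (inv_mem hr) c hc
      simpa using this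
  have hmem : ∀ x, x ∈ R' ↔ ∃ a ∈ S ⊓ normalizer (Q' : Set G), ∃ b ∈ centralizer (Q' : Set G), x = a * b :=
    fun x => mem_sup_of_le_normalizer (inf_le_right.trans hNC)
  refine ⟨R'.comap K.subtype, ?_, ?_, ?_, ?_⟩
  · intro x hx
    rw [hP] at hx
    obtain ⟨hx1, hx2⟩ := mem_inf.1 hx
    rw [mem_subgroupOf] at hx1
    exact (hmem _).2 ⟨x, mem_inf.2 ⟨hx1, (hNQ x).2 hx2⟩, 1, one_mem _, (mul_one _).symm⟩
  · intro x hx
    obtain ⟨a, ha, b, hb, e⟩ := (hmem _).1 hx
    rw [← hNQ]
    have : (x : G) = a * b := e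
    rw [this]
    exact mul_mem (mem_inf.1 ha).2 (centralizer_le_normalizer _ hb)
  · intro g hg r hr
    obtain ⟨a, ha, b, hb, e⟩ := (hmem _).1 hr
    have e : (r : G) = a * b := e
    have hg' := (hNQ g).2 hg
    obtain ⟨n, hn, c, hc, e'⟩ := h Q' hQ'S g (by rw [mem_normalizer_iff_map_conj.1 hg']; exact hQ'S)
    have hnQ : n ∈ normalizer (Q' : Set G) := by
      have : n = (g : G) * c⁻¹ := by rw [e']; group
      rw [this]
      exact mul_mem hg' (inv_mem (centralizer_le_normalizer _ hc))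
    obtain ⟨haS, haQ⟩ := mem_inf.1 ha
    refine (hmem _).2 ⟨n * a * n⁻¹, mem_inf.2 ⟨?_, mul_mem (mul_mem hnQ haQ) (inv_mem hnQ)⟩,
      n * (a⁻¹ * c * a * b * c⁻¹) * n⁻¹, ?_, ?_⟩
    · have := conj_mem_map_conj haS n
      rwa [mem_normalizer_iff_map_conj.1 hn] at this
    · refine hCn n hnQ _ (mul_mem (mul_mem ?_ hb) (inv_mem hc))
      have := hCn a⁻¹ (inv_mem haQ) c hc
      simpa using this
    · show (g : G) * r * (g : G)⁻¹ = _
      rw [e, e']
      group
  · intro r hr
    obtain ⟨a, ha, b, hb, e⟩ := (hmem _).1 hr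
    have e : (r : G) = a * b := e
    obtain ⟨haS, haQ⟩ := mem_inf.1 ha
    obtain ⟨k, hk⟩ := hS ⟨a, haS⟩
    have hk' : a ^ p ^ k = 1 := congrArg Subtype.val hk
    refine ⟨k, ?_⟩
    rw [← hCQ]
    have hpw : ∀ m : ℕ, ∃ c ∈ centralizer (Q' : Set G), (a * b) ^ m = a ^ m * c := by
      intro m
      induction m with
      | zero => exact ⟨1, one_mem _, by simp⟩
      | succ m ih =>
        obtain ⟨c, hc, e⟩ := ih
        refine ⟨a⁻¹ * c * a * b, mul_mem ?_ hb, ?_⟩
        · have := hCn a⁻¹ (inv_mem haQ) c hc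
          simpa using this
        · rw [pow_succ, e, pow_succ]; group
    obtain ⟨c, hc, e2⟩ := hpw (p ^ k)
    show ((r : G)) ^ p ^ k ∈ _
    rw [e, e2, hk', one_mul]
    exact hc

end Cfsg.Agent.TypeL3
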