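import Mathlib
import Cfsg.Agent.TypeL3.Closed
import Cfsg.Agent.S0660
import Cfsg.Agent.Lib.FrattiniPGroup
import Cfsg.Prelude.Def_CaseTheorems
import Cfsg.Agent.Lib.Cores
import Cfsg.Agent.TypeL3.Control
import Cfsg.Agent.S0542
import Cfsg.Agent.SignalizersComponents.CompBasic
import Cfsg.Agent.SignalizersComponents.Components
import Cfsg.Agent.TypeL3.Spread
import Cfsg.Agent.Lib.KleinGen
import Cfsg.Agent.FastGrp
import Cfsg.Agent.Prune
set_option linter.all false

section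
prune_inst 0x7ffdfef9bfbcaddeffff7e7ffffddffe3dd4dfffffdfff4bfffdfbffffff23ef3be5fbaf1de4d8ffdef7e2b6b0b87813f9ffeeffef6bdd7ffffd5ff45ffbee1fe5ffbfa951d798340ffe6ffffbf37fffffffffffffffffffffffffffffffffffffffffffffff

-- part: TypeL3/SimpleCase
section
set_option linter.all false
open scoped Cfsg.Agent.FastGrp

/-!
# Simple groups with elementary abelian Sylow 2-subgroups and strongly closed subgroups
-/

set_option autoImplicit false

namespace Cfsg.Agent.TypeL3

open Subgroup Cfsg.Agent.Lib.GoldschmidtFusion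
open scoped commutatorElement

universe u

/-- the statement of Goldschmidt's product theorem (first half of S1171) in universe `u` -/
def H1171 : Prop := ∀ (X : Type u) [Group X] [Finite X] (P : Sylow 2 X) (A B : Subgroup X),
  A ⊓ B = ⊥ → Cfsg.IsStronglyClosed A (P : Subgroup X) → Cfsg.IsStronglyClosed B (P : Subgroup X) →
    ⁅Subgroup.normalClosure (A : Set X), Subgroup.normalClosure (B : Set X)⁆ ≤ Cfsg.oddCore X

variable {Y : Type u} [Group Y] [Finite Y]

/-- a Sylow 2-subgroup generated by two strongly closed elementary abelian subgroups is elementary abelian -/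
theorem comm_of_two_closed (h1169 : H1169.{u}) [IsSimpleGroup Y] (P : Sylow 2 Y) {Q R : Subgroup Y}
    (hQ : Cfsg.IsStronglyClosed Q (P : Subgroup Y)) (hR : Cfsg.IsStronglyClosed R (P : Subgroup Y))
    (hQc : ∀ x ∈ Q, ∀ y ∈ Q, x * y = y * x) (hRc : ∀ x ∈ R, ∀ y ∈ R, x * y = y * x)
    (hQ2 : ∀ x ∈ Q, x * x = 1) (hR2 : ∀ x ∈ R, x * x = 1)
    (hQR : ∀ x ∈ (P : Subgroup Y), ∃ y ∈ Q, ∃ z ∈ R, x = y * z) :
    (∀ x ∈ (P : Subgroup Y), ∀ y ∈ (P : Subgroup Y), x * y = y * x) ∧ ∀ x ∈ (P : Subgroup Y), x * x = 1 := by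
  -- enough: commutativity
  have fin : (∀ x ∈ (P : Subgroup Y), ∀ y ∈ (P : Subgroup Y), x * y = y * x) →
      (∀ x ∈ (P : Subgroup Y), ∀ y ∈ (P : Subgroup Y), x * y = y * x) ∧ ∀ x ∈ (P : Subgroup Y), x * x = 1 := by
    intro hc
    refine ⟨hc, fun x hx => ?_⟩
    obtain ⟨y, hy, z, hz, rfl⟩ := hQR x hx
    have h1 := hc y (hQ.1 hy) z (hR.1 hz)
    calc y * z * (y * z) = y * (z * y) * z := by group
      _ = (y * y) * (z * z) := by rw [← h1]; group
      _ = 1 := by rw [hQ2 y hy, hR2 z hz, one_mul]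
  have key : ∀ (Q R : Subgroup Y), Cfsg.IsStronglyClosed Q (P : Subgroup Y) →
      (∀ x ∈ Q, ∀ y ∈ Q, x * y = y * x) → (∀ x ∈ Q, x * x = 1) → R ≤ (P : Subgroup Y) →
      (∀ x ∈ R, x * x = 1) → Q ≠ ⊥ →
      (∀ x ∈ (P : Subgroup Y), ∀ y ∈ (P : Subgroup Y), x * y = y * x) ∨ R ≤ Q := by
    intro Q R hQ hQc hQ2 hRP hR2 hQne
    have hcomm : IsMulCommutative Q := ⟨⟨fun x y => Subtype.ext (hQc x x.2 y y.2)⟩⟩
    rcases h1169 Y P Q hQne hcomm hQ with h1 | ⟨H, hH⟩
    · left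
      intro x hx y hy
      exact congrArg Subtype.val (h1.1.1 (⟨x, hx⟩ : (P : Subgroup Y)) ⟨y, hy⟩)
    · right
      obtain ⟨q, hq, hq1⟩ : ∃ q ∈ Q, q ≠ 1 := by
        by_contra h0
        push Not at h0
        exact hQne ((Subgroup.eq_bot_iff_forall _).2 h0)
      intro r hr
      exact mem_of_stronglyEmbedded hH hQ hq (hQ2 q hq) hq1 (hRP hr) (hR2 r hr)
  by_cases hQ0 : Q = ⊥
  · apply fin
    intro x hx y hy
    obtain ⟨a, ha, b, hb, rfl⟩ := hQR x hx
    obtain ⟨c, hc, d, hd, rfl⟩ := hQR y hy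
    rw [hQ0, mem_bot] at ha hc
    subst ha; subst hc
    simpa using hRc b hb d hd
  · rcases key Q R hQ hQc hQ2 hR.1 hR2 hQ0 with h1 | h1
    · exact fin h1
    · apply fin
      intro x hx y hy
      obtain ⟨a, ha, b, hb, rfl⟩ := hQR x hx
      obtain ⟨c, hc, d, hd, rfl⟩ := hQR y hy
      exact hQc _ (mul_mem ha (h1 hb)) _ (mul_mem hc (h1 hd))

theorem oddCore_eq_bot_of_simple [IsSimpleGroup Y] (P : Sylow 2 Y) (hP : (P : Subgroup Y) ≠ ⊥) :
    Cfsg.oddCore Y = ⊥ := by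
  have hn : (Cfsg.oddCore Y).Normal := Cfsg.Agent.Lib.Cores.pPrimeCore_normal 2
  rcases hn.eq_bot_or_eq_top with h | h
  · exact h
  · exfalso
    have h1 := (Cfsg.Agent.Lib.Cores.pPrimeCore_eq_top_iff (G := Y) (p := 2)).1 h
    have h3 : Nat.card Y = Nat.card (P : Subgroup Y) * (P : Subgroup Y).index :=
      ((P : Subgroup Y).card_mul_index).symm
    apply hP
    obtain ⟨k, hk⟩ := IsPGroup.iff_card.1 P.isPGroup'
    rcases Nat.eq_zero_or_pos k with h4 | h4
    · rw [h4, pow_zero] at hk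
      exact Subgroup.card_eq_one.1 hk
    · exfalso
      have h5 : 2 ∣ Nat.card Y := by
        rw [h3, hk]
        exact Dvd.dvd.mul_right (dvd_pow_self 2 h4.ne') _
      have h6 : Nat.gcd (Nat.card Y) 2 = 2 := Nat.gcd_eq_right h5
      rw [Nat.Coprime] at h1
      omega

/-- a strongly closed subgroup of an elementary abelian Sylow 2-subgroup of a simple group is trivial or
everything -/
theorem closed_eq_bot_or_eq (h1171 : H1171.{u}) [IsSimpleGroup Y] (hna : ∃ a b : Y, a * b ≠ b * a)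
    (P : Sylow 2 Y) (hPc : ∀ x ∈ (P : Subgroup Y), ∀ y ∈ (P : Subgroup Y), x * y = y * x)
    (hP2 : ∀ x ∈ (P : Subgroup Y), x * x = 1) {Q : Subgroup Y}
    (hQ : Cfsg.IsStronglyClosed Q (P : Subgroup Y)) : Q = ⊥ ∨ Q = P := by
  classical
  by_cases hPne : (P : Subgroup Y) = ⊥
  · left
    exact le_bot_iff.1 (hPne ▸ hQ.1)
  have hcore := oddCore_eq_bot_of_simple P hPne
  let _ : CommGroup (P : Subgroup Y) :=
    { (inferInstance : Group (P : Subgroup Y)) with
      mul_comm := fun x y => Subtype.ext (hPc x x.2 y y.2) }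
  -- the action of `N(P)` on `P`
  let N := normalizer ((P : Subgroup Y) : Set Y)
  let φ : N →* MulAut (P : Subgroup Y) := (P : Subgroup Y).normalizerMonoidHom
  have hφ : ∀ (n : N) (x : (P : Subgroup Y)), ((φ n x : (P : Subgroup Y)) : Y) = n * x * (n : Y)⁻¹ :=
    fun n x => rfl
  let A := φ.range
  have hcop : (Nat.card A).Coprime (Nat.card (P : Subgroup Y)) := by
    obtain ⟨k, hk⟩ := IsPGroup.iff_card.1 P.isPGroup'
    rw [hk]
    apply Nat.Coprime.pow_right
    rw [Nat.coprime_comm, Nat.Prime.coprime_iff_not_dvd Nat.prime_two]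
    intro hd
    have h1 : Nat.card A = φ.ker.index := (Subgroup.index_ker φ).symm
    have h2 : (P : Subgroup Y).subgroupOf N ≤ φ.ker := by
      intro n hn
      rw [mem_subgroupOf] at hn
      rw [MonoidHom.mem_ker]
      ext x
      rw [hφ, MulAut.one_apply, hPc n hn x x.2, mul_inv_cancel_right]
    have h3 : φ.ker.index ∣ ((P : Subgroup Y).subgroupOf N).index := Subgroup.index_dvd_of_le h2
    apply P.not_dvd_index
    rw [h1] at hd
    exact (hd.trans h3).trans (relIndex_dvd_index_of_le le_normalizer)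
  let U := Q.subgroupOf (P : Subgroup Y)
  obtain ⟨W, hW⟩ := Cfsg.Agent.Lib.FrattiniPGroup.exists_isCompl_of_elementary (p := 2)
    (fun a b : (P : Subgroup Y) => mul_comm a b)
    (fun a => Subtype.ext (by rw [Subgroup.coe_pow, pow_two]; exact hP2 a a.2)) U
  have hU : ∀ a : A, ∀ u ∈ U, (A.subtype a) u ∈ U := by
    rintro ⟨_, n, rfl⟩ u hu
    rw [mem_subgroupOf] at hu ⊢
    show ((φ n u : (P : Subgroup Y)) : Y) ∈ Q
    rw [hφ]
    exact hQ.2 u hu n ((φ n u).2)
  obtain ⟨W', hW', hinf, hsup⟩ := Cfsg.Agent.S0660.exists_invariant_complement A.subtype hcop U W hU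
    hW.inf_eq_bot hW.sup_eq_top
  let R := W'.map (P : Subgroup Y).subtype
  have hRP : R ≤ (P : Subgroup Y) := by
    rintro _ ⟨x, -, rfl⟩
    exact x.2
  have hPcomm : IsMulCommutative (P : Subgroup Y) := ⟨⟨fun x y => Subtype.ext (hPc x x.2 y y.2)⟩⟩
  have hR : Cfsg.IsStronglyClosed R (P : Subgroup Y) := by
    refine ⟨hRP, ?_⟩
    rintro _ ⟨x, hx, rfl⟩ g hg
    have hg' : g⁻¹⁻¹ * (x : Y) * g⁻¹ ∈ (P : Subgroup Y) := by rw [inv_inv]; exact hg
    obtain ⟨n, hn, e⟩ := P.conj_eq_normalizer_conj_of_mem (x : Y) g⁻¹ x.2 hg'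
    rw [inv_inv] at e
    have h1 := hW' ⟨φ ⟨n⁻¹, inv_mem hn⟩, ⟨_, rfl⟩⟩ x hx
    refine ⟨_, h1, ?_⟩
    show ((φ ⟨n⁻¹, inv_mem hn⟩ x : (P : Subgroup Y)) : Y) = g * x * g⁻¹
    rw [hφ, e]
    simp
  have hQR : Q ⊓ R = ⊥ := by
    rw [Subgroup.eq_bot_iff_forall]
    intro x hx
    obtain ⟨hxQ, w, hw, rfl⟩ := mem_inf.1 hx
    have h1 : w ∈ U ⊓ W' := mem_inf.2 ⟨by rw [mem_subgroupOf]; exact hxQ, hw⟩
    rw [hinf, mem_bot] at h1
    rw [h1]; rfl
  have hC := h1171 Y P Q R hQR hQ hR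
  rw [hcore] at hC
  have hC' : ∀ a ∈ Subgroup.normalClosure (Q : Set Y), ∀ b ∈ Subgroup.normalClosure (R : Set Y), a * b = b * a := by
    intro a ha b hb
    have h1 : ⁅a, b⁆ ∈ (⊥ : Subgroup Y) := hC (commutator_mem_commutator ha hb)
    rw [mem_bot] at h1
    exact commutatorElement_eq_one_iff_mul_comm.1 h1
  by_cases hQ0 : Q = ⊥
  · exact Or.inl hQ0
  right
  have hQt : Subgroup.normalClosure (Q : Set Y) = ⊤ := by
    rcases (Subgroup.normalClosure_normal (s := (Q : Set Y))).eq_bot_or_eq_top with h | h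
    · exfalso
      apply hQ0
      exact le_bot_iff.1 (h ▸ Subgroup.subset_normalClosure)
    · exact h
  have hR0 : R = ⊥ := by
    by_contra hR0
    have hRt : Subgroup.normalClosure (R : Set Y) = ⊤ := by
      rcases (Subgroup.normalClosure_normal (s := (R : Set Y))).eq_bot_or_eq_top with h | h
      · exfalso
        apply hR0
        exact le_bot_iff.1 (h ▸ Subgroup.subset_normalClosure)
      · exact h
    obtain ⟨a, b, hab⟩ := hna
    exact hab (hC' a (hQt ▸ mem_top a) b (hRt ▸ mem_top b))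
  have hW0 : W' = ⊥ := (Subgroup.map_eq_bot_iff_of_injective _ (P : Subgroup Y).subtype_injective).1 hR0
  rw [hW0, sup_bot_eq] at hsup
  apply le_antisymm hQ.1
  intro x hx
  have h1 : (⟨x, hx⟩ : (P : Subgroup Y)) ∈ U := by rw [hsup]; trivial
  rw [mem_subgroupOf] at h1
  exact h1

end Cfsg.Agent.TypeL3
end

-- part: TypeL3/NoComp
section
prune_inst 0x4000010000000000000000001c0292000002000b0000004000000480040100000620b04002100100806400388060000000090008000020008a0041180080040022c28048b00001000040c800000000000000000000000000000000000000000000000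
set_option linter.all false
open scoped Cfsg.Agent.FastGrp

/-!
# No components

`X` finite, `O(X) = 1`, Sylow 2-subgroup `S = AB` with `N(A)`, `N(B)` normalising `Z = A ∩ B`
(so `N(S)` controls fusion). Then `X` has no component.
-/

set_option autoImplicit false

namespace Cfsg.Agent.TypeL3

open Subgroup Cfsg.Agent.Lib.GoldschmidtFusion
open scoped commutatorElement

universe u

variable {X : Type u} [Group X]

theorem coe_mem_normalizer_map {K : Subgroup X} {Q : Subgroup K} {x : K} :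
    (x : X) ∈ normalizer ((Q.map K.subtype : Subgroup X) : Set X) ↔ x ∈ normalizer (Q : Set K) := by
  rw [mem_normalizer_iff_map_conj, mem_normalizer_iff_map_conj]
  have e : (Q.map K.subtype).map (MulAut.conj (x : X)).toMonoidHom =
      (Q.map (MulAut.conj x).toMonoidHom).map K.subtype := by
    rw [Subgroup.map_map, Subgroup.map_map]
    rfl
  rw [e]
  exact (Subgroup.map_injective K.subtype_injective).eq_iff

/-- elements normalising `P` and `Z` normalise the stabiliser of the chain `1 ≤ Z ≤ P` -/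
theorem conj_mem_chainStab {Z P : Subgroup X} {g r : X} (hgZ : g ∈ normalizer (Z : Set X))
    (hgP : g ∈ normalizer (P : Set X)) (hr : r ∈ IsAB.chainStab Z P) : g * r * g⁻¹ ∈ IsAB.chainStab Z P := by
  obtain ⟨hr1, hr2, hr3⟩ := hr
  have hgZ' := mem_normalizer_iff_map_conj.1 hgZ
  have hgP' := mem_normalizer_iff_map_conj.1 hgP
  refine ⟨mul_mem (mul_mem hgP hr1) (inv_mem hgP), fun z hz => ?_, fun x hx => ?_⟩
  · have hz' : g⁻¹ * z * g ∈ Z := by rw [← mem_map_conj, hgZ']; exact hz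
    have := hr2 _ hz'
    calc g * r * g⁻¹ * z = g * (r * (g⁻¹ * z * g)) * g⁻¹ := by group
      _ = z * (g * r * g⁻¹) := by rw [this]; group
  · have hx' : g⁻¹ * x * g ∈ P := by rw [← mem_map_conj, hgP']; exact hx
    have := hr3 _ hx'
    have h2 := conj_mem_map_conj this g
    rw [hgZ'] at h2
    convert h2 using 1
    group

variable [Finite X]

/-- the situation of the lemma: `K` a component -/
structure NCtx (S : Sylow 2 X) (A B K : Subgroup X) : Prop where
  ab : IsAB (S : Subgroup X) A B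
  core : Cfsg.oddCore X = ⊥
  NA : normalizer (A : Set X) ≤ normalizer ((A ⊓ B : Subgroup X) : Set X)
  NB : normalizer (B : Set X) ≤ normalizer ((A ⊓ B : Subgroup X) : Set X)
  comp : Cfsg.IsComponent K

namespace NCtx

variable {S : Sylow 2 X} {A B K : Subgroup X}

omit [Finite X] in
theorem symm (h : NCtx S A B K) : NCtx S B A K where
  ab := h.ab.symm
  core := h.core
  NA := by rw [inf_comm]; exact h.NB
  NB := by rw [inf_comm]; exact h.NA
  comp := h.comp

theorem closedA (h : NCtx S A B K) : Cfsg.IsStronglyClosed A (S : Subgroup X) := h.ab.stronglyClosed_A h.NB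
theorem closedB (h : NCtx S A B K) : Cfsg.IsStronglyClosed B (S : Subgroup X) := h.ab.stronglyClosed_B h.NA
theorem closedZ (h : NCtx S A B K) : Cfsg.IsStronglyClosed (A ⊓ B) (S : Subgroup X) :=
  stronglyClosed_inf h.closedA h.closedB

theorem controls (h : NCtx S A B K) : Controls (S : Subgroup X) :=
  fun _ hQ _ hg => h.ab.control h.NA h.NB hQ hg

theorem exists_sylow (h : NCtx S A B K) : ∃ P : Sylow 2 K, (P : Subgroup K) = (S : Subgroup X).subgroupOf K :=
  Cfsg.Agent.S0542.result 2 K h.comp.1 S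

/-- focal subgroup theorem in `K` -/
theorem le_of_commutators (h : NCtx S A B K) {M : Subgroup X}
    (hM : ∀ x ∈ (S : Subgroup X) ⊓ K, ∀ n ∈ normalizer (((S : Subgroup X) ⊓ K : Subgroup X) : Set X) ⊓ K,
      x * n * x⁻¹ * n⁻¹ ∈ M) : (S : Subgroup X) ⊓ K ≤ M := by
  obtain ⟨P, hP⟩ := h.exists_sylow
  have hc : Controls (P : Subgroup K) := control_subgroup S.isPGroup' h.controls P hP
  have hperf : _root_.commutator K = ⊤ := h.comp.2.1.commutator_eq_top
  have hf := Subgroup.commutator_inf_eq_focalSubgroup P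
  rw [hperf, top_inf_eq, focalSubgroup_def] at hf
  have hPmap : (P : Subgroup K).map K.subtype = (S : Subgroup X) ⊓ K := by
    rw [hP, subgroupOf_map_subtype]
  intro x hx
  obtain ⟨hxS, hxK⟩ := mem_inf.1 hx
  have hxP : (⟨x, hxK⟩ : K) ∈ (P : Subgroup K) := by rw [hP, mem_subgroupOf]; exact hxS
  have hle : (P : Subgroup K) ≤ M.comap K.subtype := by
    rw [hf, closure_le]
    rintro g ⟨hg, y, hy, w, rfl⟩
    have hy' : w * y⁻¹ * w⁻¹ ∈ (P : Subgroup K) := by
      have := mul_mem (inv_mem hy) hg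
      rw [commutatorElement_def] at this
      convert this using 1
      group
    obtain ⟨n, hn, e⟩ := hc.exists_conj (inv_mem hy) hy'
    have e2 : ⁅y, w⁆ = y * n * y⁻¹ * n⁻¹ := by
      rw [commutatorElement_def, mul_assoc y w, mul_assoc y, ← e]; group
    show ((⁅y, w⁆ : K) : X) ∈ M
    rw [e2]
    refine hM y ?_ n ?_
    · rw [← hPmap]; exact ⟨y, hy, rfl⟩
    · refine mem_inf.2 ⟨?_, n.2⟩
      rw [← hPmap]
      exact coe_mem_normalizer_map.2 hn
  exact hle hxP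

theorem inf_ne_bot (h : NCtx S A B K) : (S : Subgroup X) ⊓ K ≠ ⊥ := by
  intro h0
  obtain ⟨P, hP⟩ := h.exists_sylow
  have hP0 : (P : Subgroup K) = ⊥ := by
    rw [Subgroup.eq_bot_iff_forall]
    intro x hx
    rw [hP, mem_subgroupOf] at hx
    have h1 : (x : X) ∈ (S : Subgroup X) ⊓ K := mem_inf.2 ⟨hx, x.2⟩
    rw [h0, mem_bot] at h1
    exact Subtype.ext h1
  have h1 : ¬ 2 ∣ Nat.card K := by
    intro hd
    exact P.ne_bot_of_dvd_card hd hP0
  have h2 : (Nat.card K).Coprime 2 := (Nat.coprime_comm.1 ((Nat.Prime.coprime_iff_not_dvd Nat.prime_two).2 h1))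
  have h3 := Cfsg.Agent.SignalizersComponents.CompBasic.subnormal_coprime_le_pPrimeCore h.comp.1 h2
  have h4 : K = ⊥ := le_bot_iff.1 (h3.trans h.core.le)
  have h5 := Cfsg.Agent.SignalizersComponents.Components.quasisimple_nontrivial h.comp.2
  rw [Subgroup.nontrivial_iff_ne_bot] at h5
  exact h5 h4

/-- if `S ∩ K` is centralised by `N_K(S ∩ K)` we have a contradiction -/
theorem false_of_central (h : NCtx S A B K)
    (hc : ∀ x ∈ (S : Subgroup X) ⊓ K, ∀ n ∈ normalizer (((S : Subgroup X) ⊓ K : Subgroup X) : Set X) ⊓ K,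
      n * x = x * n) : False := by
  apply h.inf_ne_bot
  rw [eq_bot_iff]
  apply h.le_of_commutators
  intro x hx n hn
  rw [mem_bot, ← hc x hx n hn]
  group

/-- `S` normalises `K` -/
theorem S_normalises (h : NCtx S A B K) {s : X} (hs : s ∈ (S : Subgroup X)) : s ∈ normalizer (K : Set X) := by
  rw [mem_normalizer_iff_map_conj]
  by_contra hne
  have hL := Cfsg.Agent.SignalizersComponents.Components.isComponent_conj s h.comp
  have hcomm := Cfsg.Agent.SignalizersComponents.Components.component_le_centralizer_of_ne h.comp hL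
    (fun e => hne e.symm)
  set L := K.map (MulAut.conj s).toMonoidHom with hLdef
  have hKL : ∀ k ∈ K, ∀ l ∈ L, k * l = l * k := fun k hk l hl => ((mem_centralizer_iff.1 (hcomm hk)) l hl).symm
  have hZs := fun {z : X} (hz : z ∈ A ⊓ B) {t : X} (ht : t ∈ (S : Subgroup X)) => h.ab.comm_Z hz ht
  have key : (S : Subgroup X) ⊓ K ≤ centralizer (K : Set X) := by
    apply h.le_of_commutators
    intro x hx d hd
    obtain ⟨hxS, hxK⟩ := mem_inf.1 hx
    obtain ⟨hdN, hdK⟩ := mem_inf.1 hd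
    have hxL : s * x * s⁻¹ ∈ L := conj_mem_map_conj hxK s
    have hxS' : s * x * s⁻¹ ∈ (S : Subgroup X) := mul_mem (mul_mem hs hxS) (inv_mem hs)
    -- `ζ = x⁻¹ x^s ∈ Z`
    have hζ : x⁻¹ * (s * x * s⁻¹) ∈ A ⊓ B := by
      have := h.ab.comm_mem (inv_mem hxS) hs
      convert this using 1
      group
    have hdx : d * x⁻¹ * d⁻¹ ∈ (S : Subgroup X) ⊓ K := by
      have := conj_mem_of_mem_normalizer hdN (inv_mem hx)
      exact this
    have e1 : d * (x⁻¹ * (s * x * s⁻¹)) * d⁻¹ = d * x⁻¹ * d⁻¹ * (s * x * s⁻¹) := by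
      have := hKL d hdK _ hxL
      calc d * (x⁻¹ * (s * x * s⁻¹)) * d⁻¹ = d * x⁻¹ * d⁻¹ * (d * (s * x * s⁻¹)) * d⁻¹ := by group
        _ = d * x⁻¹ * d⁻¹ * (s * x * s⁻¹) := by rw [this]; group
    have h1 : d * (x⁻¹ * (s * x * s⁻¹)) * d⁻¹ ∈ A ⊓ B := by
      apply h.closedZ.2 _ hζ d
      rw [e1]
      exact mul_mem (mem_inf.1 hdx).1 hxS'
    rw [e1] at h1
    have h2 : d * x⁻¹ * d⁻¹ * x ∈ A ⊓ B := by
      have := mul_mem h1 (inv_mem hζ)
      convert this using 1
      group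
    have h3 : x * d * x⁻¹ * d⁻¹ = d * x⁻¹ * d⁻¹ * x := by
      have := hZs h2 hxS
      calc x * d * x⁻¹ * d⁻¹ = x * (d * x⁻¹ * d⁻¹ * x) * x⁻¹ := by group
        _ = d * x⁻¹ * d⁻¹ * x := by rw [← this]; group
    rw [h3]
    have h4 : d * x⁻¹ * d⁻¹ * x ∈ K := mul_mem (mem_inf.1 hdx).2 hxK
    have h5 : d * x⁻¹ * d⁻¹ * x ∈ L := by
      rw [hLdef, mem_map_conj]
      have := hZs h2 (inv_mem hs)
      have e : s⁻¹ * (d * x⁻¹ * d⁻¹ * x) * s = d * x⁻¹ * d⁻¹ * x := by rw [← this]; group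
      rw [e]; exact h4
    exact mem_centralizer_iff.2 fun k hk => hKL k hk _ h5
  apply h.false_of_central
  intro x hx n hn
  exact (mem_centralizer_iff.1 (key hx)) n (mem_inf.1 hn).2

theorem conj_K (h : NCtx S A B K) {s k : X} (hs : s ∈ (S : Subgroup X)) (hk : k ∈ K) : s * k * s⁻¹ ∈ K :=
  conj_mem_of_mem_normalizer (h.S_normalises hs) hk

/-- `S` stabilises the chain `1 ≤ Z ∩ K ≤ S ∩ K` -/
theorem S_le_chainStab (h : NCtx S A B K) :
    (S : Subgroup X) ≤ IsAB.chainStab ((A ⊓ B) ⊓ K) ((S : Subgroup X) ⊓ K) := by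
  intro s hs
  refine ⟨?_, fun z hz => (h.ab.comm_Z (mem_inf.1 hz).1 hs).symm, fun x hx => ?_⟩
  · rw [mem_normalizer_iff_map_conj, Subgroup.map_inf _ _ _ (MulAut.conj s).injective,
      mem_normalizer_iff_map_conj.1 (le_normalizer hs), mem_normalizer_iff_map_conj.1 (h.S_normalises hs)]
  · obtain ⟨hxS, hxK⟩ := mem_inf.1 hx
    exact mem_inf.2 ⟨h.ab.comm_mem hs hxS, mul_mem (h.conj_K hs hxK) (inv_mem hxK)⟩

/-- elements of `N_K(S ∩ K)` normalise `Z ∩ K` -/
theorem normalises_ZK (h : NCtx S A B K) {g : X}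
    (hg : g ∈ normalizer (((S : Subgroup X) ⊓ K : Subgroup X) : Set X) ⊓ K) :
    g ∈ normalizer (((A ⊓ B) ⊓ K : Subgroup X) : Set X) := by
  obtain ⟨hgN, hgK⟩ := mem_inf.1 hg
  rw [mem_normalizer_iff_map_conj]
  apply Subgroup.eq_of_le_of_card_ge _ (by rw [card_map_conj])
  rintro _ ⟨z, hz, rfl⟩
  obtain ⟨hzZ, hzK⟩ := mem_inf.1 hz
  have h1 := conj_mem_of_mem_normalizer hgN (mem_inf.2 ⟨h.ab.Z_le hzZ, hzK⟩)
  exact mem_inf.2 ⟨h.closedZ.2 z hzZ g (mem_inf.1 h1).1, (mem_inf.1 h1).2⟩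

/-- `N₀ = C₀ N₁` -/
theorem exists_mul_mem (h : NCtx S A B K) {g : X}
    (hg : g ∈ normalizer (((S : Subgroup X) ⊓ K : Subgroup X) : Set X) ⊓ K) :
    ∃ c ∈ IsAB.chainStab ((A ⊓ B) ⊓ K) ((S : Subgroup X) ⊓ K) ⊓ K,
      c * g ∈ normalizer ((S : Subgroup X) : Set X) := by
  set R := IsAB.chainStab ((A ⊓ B) ⊓ K) ((S : Subgroup X) ⊓ K) with hR
  have hSR : (S : Subgroup X) ≤ R := h.S_le_chainStab
  have hSn : (S : Subgroup X) ≤ normalizer ((R ⊓ K : Subgroup X) : Set X) := by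
    intro s hs
    rw [mem_normalizer_iff_map_conj, Subgroup.map_inf _ _ _ (MulAut.conj s).injective,
      mem_normalizer_iff_map_conj.1 (le_normalizer (hSR hs)),
      mem_normalizer_iff_map_conj.1 (h.S_normalises hs)]
  have hmem : ∀ x, x ∈ (S : Subgroup X) ⊔ (R ⊓ K) ↔ ∃ a ∈ (S : Subgroup X), ∃ b ∈ R ⊓ K, x = a * b :=
    fun x => mem_sup_of_le_normalizer hSn
  have hgR := fun r (hr : r ∈ R) => conj_mem_chainStab (h.normalises_ZK hg) (mem_inf.1 hg).1 hr
  have hgK := (mem_inf.1 hg).2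
  obtain ⟨r, hr, hrg⟩ := exists_conj_normalizer S (R := (S : Subgroup X) ⊔ (R ⊓ K)) le_sup_left (g := g) (by
    intro r hr
    obtain ⟨s, hs, c, hc, rfl⟩ := (hmem r).1 hr
    obtain ⟨hcR, hcK⟩ := mem_inf.1 hc
    refine (hmem _).2 ⟨s, hs, s⁻¹ * (g * s * g⁻¹) * (g * c * g⁻¹), mem_inf.2 ⟨?_, ?_⟩, by group⟩
    · exact mul_mem (mul_mem (inv_mem (hSR hs)) (hgR s (hSR hs))) (hgR c hcR)
    · refine mul_mem ?_ (mul_mem (mul_mem hgK hcK) (inv_mem hgK))
      have h1 := h.conj_K (inv_mem hs) hgK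
      have h2 := mul_mem h1 (inv_mem hgK)
      convert h2 using 1
      group)
  obtain ⟨s, hs, c, hc, rfl⟩ := (hmem r).1 hr
  refine ⟨c, hc, ?_⟩
  have := mul_mem (inv_mem (le_normalizer hs)) hrg
  simpa [mul_assoc] using this

/-- `S ∩ K = (A ∩ K)(B ∩ K)` -/
theorem exists_mul_inf (h : NCtx S A B K) {x : X} (hx : x ∈ (S : Subgroup X) ⊓ K) :
    ∃ a ∈ A ⊓ K, ∃ b ∈ B ⊓ K, x = a * b := by
  have hAn : A ⊓ K ≤ normalizer ((B ⊓ K : Subgroup X) : Set X) := by
    intro a ha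
    have haS := h.ab.A_le (mem_inf.1 ha).1
    rw [mem_normalizer_iff_map_conj, Subgroup.map_inf _ _ _ (MulAut.conj a).injective,
      mem_normalizer_iff_map_conj.1 (h.ab.S_le_normalizer_B haS),
      mem_normalizer_iff_map_conj.1 (h.S_normalises haS)]
  rw [← mem_sup_of_le_normalizer hAn]
  refine h.le_of_commutators ?_ hx
  intro x hx g hg
  obtain ⟨hxS, hxK⟩ := mem_inf.1 hx
  obtain ⟨c, hc, hn⟩ := h.exists_mul_mem hg
  obtain ⟨⟨hc1, hc2, hc3⟩, hcK⟩ := mem_inf.1 hc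
  have hgK := (mem_inf.1 hg).2
  have hnK : c * g ∈ K := mul_mem hcK hgK
  set n := c * g with hndef
  have hnN : n ∈ normalizer (((S : Subgroup X) ⊓ K : Subgroup X) : Set X) := mul_mem hc1 (mem_inf.1 hg).1
  -- `g x⁻¹ g⁻¹ = c⁻¹ (n x⁻¹ n⁻¹) c`
  have hy : n * x⁻¹ * n⁻¹ ∈ (S : Subgroup X) ⊓ K := conj_mem_of_mem_normalizer hnN (inv_mem hx)
  have hgx : g * x⁻¹ * g⁻¹ ∈ (S : Subgroup X) ⊓ K := conj_mem_of_mem_normalizer (mem_inf.1 hg).1 (inv_mem hx)
  have h1 := hc3 _ hgx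
  have e1 : c * (g * x⁻¹ * g⁻¹) * c⁻¹ = n * x⁻¹ * n⁻¹ := by rw [hndef]; group
  rw [e1] at h1
  -- so `g x⁻¹ g⁻¹ = ζ⁻¹ (n x⁻¹ n⁻¹)`
  set ζ := n * x⁻¹ * n⁻¹ * (g * x⁻¹ * g⁻¹)⁻¹ with hζ
  obtain ⟨hζZ, hζK⟩ := mem_inf.1 h1
  have e2 : g * x⁻¹ * g⁻¹ = ζ⁻¹ * (n * x⁻¹ * n⁻¹) := by rw [hζ]; group
  have e3 : x * g * x⁻¹ * g⁻¹ = ζ⁻¹ * (x * (n * x⁻¹ * n⁻¹)) := by
    have := h.ab.comm_Z (inv_mem hζZ) hxS
    calc x * g * x⁻¹ * g⁻¹ = x * (g * x⁻¹ * g⁻¹) := by group
      _ = (x * ζ⁻¹) * (n * x⁻¹ * n⁻¹) := by rw [e2]; group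
      _ = ζ⁻¹ * (x * (n * x⁻¹ * n⁻¹)) := by rw [← this]; group
  rw [e3]
  have hζA : ζ⁻¹ ∈ A ⊓ K := mem_inf.2 ⟨(mem_inf.1 (inv_mem hζZ)).1, inv_mem hζK⟩
  refine mul_mem (mem_sup_left hζA) ?_
  -- decompose `x = a b`
  obtain ⟨a, ha, b, hb, rfl⟩ := h.ab.prod x hxS
  have haS := h.ab.A_le ha
  have hbS := h.ab.B_le hb
  have hnA := h.ab.normalizer_le_A hn
  have hnB := h.ab.normalizer_le_B hn
  have hα : a * (n * a⁻¹ * n⁻¹) ∈ A ⊓ K := by
    refine mem_inf.2 ⟨mul_mem ha (conj_mem_of_mem_normalizer hnA (inv_mem ha)), ?_⟩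
    have := mul_mem (h.conj_K haS hnK) (inv_mem hnK)
    convert this using 1
    group
  have hβ : a * (b * (n * b⁻¹ * n⁻¹)) * a⁻¹ ∈ B ⊓ K := by
    have hβ0 : b * (n * b⁻¹ * n⁻¹) ∈ B ⊓ K := by
      refine mem_inf.2 ⟨mul_mem hb (conj_mem_of_mem_normalizer hnB (inv_mem hb)), ?_⟩
      have := mul_mem (h.conj_K hbS hnK) (inv_mem hnK)
      convert this using 1
      group
    exact mem_inf.2 ⟨conj_mem_of_mem_normalizer (h.ab.S_le_normalizer_B haS) (mem_inf.1 hβ0).1,
      h.conj_K haS (mem_inf.1 hβ0).2⟩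
  have e4 : a * b * (n * (a * b)⁻¹ * n⁻¹) = a * (b * (n * b⁻¹ * n⁻¹)) * a⁻¹ * (a * (n * a⁻¹ * n⁻¹)) := by
    group
  rw [e4]
  exact mul_mem (mem_sup_right hβ) (mem_sup_left hα)

theorem oddCore_K (h : NCtx S A B K) : Cfsg.pPrimeCore 2 K = ⊥ := by
  have h1 := Cfsg.Agent.SignalizersComponents.CompBasic.map_subtype_pPrimeCore_of_subnormal 2 h.comp.1
  have h2 : Cfsg.pPrimeCore 2 X = ⊥ := h.core
  rw [h2, inf_bot_eq] at h1
  exact (Subgroup.map_eq_bot_iff_of_injective _ K.subtype_injective).1 h1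

theorem center_pow (h : NCtx S A B K) {c : K} (hc : c ∈ center K) : ∃ k : ℕ, c ^ 2 ^ k = 1 := by
  obtain ⟨k, m, hm, hkm⟩ := Nat.exists_eq_pow_mul_and_not_dvd (orderOf_pos c).ne' 2 (by norm_num)
  refine ⟨k, ?_⟩
  have hd : orderOf (c ^ 2 ^ k) = m := by
    rw [orderOf_pow_of_dvd (pow_ne_zero _ two_ne_zero) (by rw [hkm]; exact Dvd.intro _ rfl), hkm,
      Nat.mul_div_cancel_left _ (pow_pos two_pos _)]
  have hdc : c ^ 2 ^ k ∈ center K := pow_mem hc _
  have hn : (zpowers (c ^ 2 ^ k)).Normal := by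
    refine ⟨fun y hy g => ?_⟩
    have h1 : y ∈ center K := (zpowers_le.2 hdc) hy
    rw [mem_center_iff.1 h1 g, mul_inv_cancel_right]
    exact hy
  have h1 : zpowers (c ^ 2 ^ k) ≤ Cfsg.pPrimeCore 2 K := by
    apply Cfsg.Agent.Lib.Cores.le_pPrimeCore hn
    rw [Nat.card_zpowers, hd]
    exact Nat.coprime_comm.1 ((Nat.Prime.coprime_iff_not_dvd Nat.prime_two).2 hm)
  rw [h.oddCore_K] at h1
  exact mem_bot.1 (h1 (mem_zpowers _))

theorem center_le (h : NCtx S A B K) (P : Sylow 2 K) : center K ≤ (P : Subgroup K) := by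
  have : IsPGroup 2 (center K) := by
    rintro ⟨c, hc⟩
    obtain ⟨k, hk⟩ := h.center_pow hc
    exact ⟨k, Subtype.ext hk⟩
  exact this.le_sylow_of_normal P

/-- the image of a subgroup in `K / Z(K)` -/
def bar (K Q : Subgroup X) : Subgroup (K ⧸ center K) := (Q.subgroupOf K).map (QuotientGroup.mk' (center K))

omit [Finite X] in
theorem mem_bar {K Q : Subgroup X} {x : K} :
    QuotientGroup.mk' (center K) x ∈ bar K Q ↔ ∃ y : K, (y : X) ∈ Q ∧ ∃ c ∈ center K, x = y * c := by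
  constructor
  · rintro ⟨y, hy, e⟩
    exact ⟨y, hy, y⁻¹ * x, QuotientGroup.eq.1 e, by group⟩
  · rintro ⟨y, hy, c, hc, rfl⟩
    exact ⟨y, hy, QuotientGroup.eq.2 (by simpa using hc)⟩

theorem closed_bar (h : NCtx S A B K) {P : Sylow 2 K} (hP : (P : Subgroup K) = (S : Subgroup X).subgroupOf K)
    {Q : Subgroup X} (hQ : Cfsg.IsStronglyClosed Q (S : Subgroup X)) :
    Cfsg.IsStronglyClosed (bar K Q)
      (P.mapSurjective (QuotientGroup.mk'_surjective (center K)) : Subgroup (K ⧸ center K)) := by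
  rw [Sylow.coe_mapSurjective, hP]
  refine ⟨Subgroup.map_mono (Subgroup.comap_mono hQ.1), ?_⟩
  rintro _ ⟨x, hx, rfl⟩ g hg
  obtain ⟨g, rfl⟩ := QuotientGroup.mk'_surjective (center K) g
  rw [← map_inv, ← map_mul, ← map_mul] at hg ⊢
  obtain ⟨y, hy, c, hc, e⟩ := mem_bar.1 hg
  have hcS : (c : X) ∈ (S : Subgroup X) := by
    have := h.center_le P hc
    rw [hP, mem_subgroupOf] at this
    exact this
  have h1 : ((g * x * g⁻¹ : K) : X) ∈ (S : Subgroup X) := by
    rw [e]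
    exact mul_mem hy hcS
  exact ⟨g * x * g⁻¹, hQ.2 x hx g h1, rfl⟩

omit [Finite X] in
theorem not_comm_bar (h : NCtx S A B K) : ∃ a b : K ⧸ center K, a * b ≠ b * a := by
  by_contra hcon
  push Not at hcon
  have hs : IsSimpleGroup (K ⧸ center K) := h.comp.2.2
  have hperf : _root_.commutator K = ⊤ := h.comp.2.1.commutator_eq_top
  have h1 : _root_.commutator (K ⧸ center K) = ⊥ := by
    rw [_root_.commutator_eq_bot_iff_center_eq_top, eq_top_iff]
    intro x _
    exact mem_center_iff.2 fun y => hcon y x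
  have h2 : (_root_.commutator K).map (QuotientGroup.mk' (center K)) = _root_.commutator (K ⧸ center K) := by
    rw [commutator_def, commutator_def, Subgroup.map_commutator,
      Subgroup.map_top_of_surjective _ (QuotientGroup.mk'_surjective (center K))]
  rw [hperf, Subgroup.map_top_of_surjective _ (QuotientGroup.mk'_surjective (center K)), h1] at h2
  obtain ⟨x, hx⟩ := exists_ne (1 : K ⧸ center K)
  apply hx
  rw [← mem_bot, ← h2]
  exact mem_top x

/-- the main case: the image of `A` is the whole Sylow subgroup of `K / Z(K)` -/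
theorem false_of_bar_eq (h : NCtx S A B K) {P : Sylow 2 K}
    (hP : (P : Subgroup K) = (S : Subgroup X).subgroupOf K)
    (hA : bar K A = (P.mapSurjective (QuotientGroup.mk'_surjective (center K)) : Subgroup (K ⧸ center K)))
    (hZ : bar K (A ⊓ B) = ⊥ ∨
      bar K (A ⊓ B) = (P.mapSurjective (QuotientGroup.mk'_surjective (center K)) : Subgroup (K ⧸ center K))) :
    False := by
  have hmP : ∀ {x : K}, (x : X) ∈ (S : Subgroup X) → x ∈ (P : Subgroup K) := by
    intro x hx; rw [hP, mem_subgroupOf]; exact hx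
  have hmS : ∀ {x : K}, x ∈ (P : Subgroup K) → (x : X) ∈ (S : Subgroup X) := by
    intro x hx; rw [hP, mem_subgroupOf] at hx; exact hx
  -- (i)
  have hi : ∀ x ∈ (P : Subgroup K), ∃ y : K, (y : X) ∈ A ∧ ∃ c ∈ center K, x = y * c := by
    intro x hx
    rw [← mem_bar, hA, Sylow.coe_mapSurjective]
    exact ⟨x, hx, rfl⟩
  -- (ii)
  have hii : ∀ x ∈ (P : Subgroup K), ∀ y ∈ (P : Subgroup K), x * y = y * x := by
    intro x hx y hy
    obtain ⟨a, ha, c, hc, rfl⟩ := hi x hx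
    obtain ⟨b, hb, d, hd, rfl⟩ := hi y hy
    have hab : a * b = b * a := Subtype.ext (h.ab.A_comm a ha b hb)
    have hcc := fun g => mem_center_iff.1 hc g
    have hdd := fun g => mem_center_iff.1 hd g
    calc a * c * (b * d) = a * (c * b) * d := by group
      _ = (a * b) * (c * d) := by rw [← hcc b]; group
      _ = b * (a * d) * c := by rw [hab, hdd c]; group
      _ = b * d * (a * c) := by rw [hdd a]; group
  -- (iii)
  have hiii : ∀ c ∈ center K, c = 1 := by
    intro c hc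
    obtain ⟨k, hk⟩ := h.center_pow hc
    let _ : CommGroup (P : Subgroup K) :=
      { (inferInstance : Group (P : Subgroup K)) with
        mul_comm := fun x y => Subtype.ext (hii x x.2 y y.2) }
    have h1 := MonoidHom.transfer_eq_pow (MonoidHom.id (P : Subgroup K)) c (by
      intro k g _
      rw [mul_assoc, ← mem_center_iff.1 (pow_mem hc k) g, inv_mul_cancel_left])
    rw [Cfsg.Agent.SignalizersComponents.CompBasic.hom_eq_one_of_perfect h.comp.2.1] at h1
    have h2 : c ^ (P : Subgroup K).index = 1 := (congrArg Subtype.val h1).symm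
    have h3 := orderOf_dvd_of_pow_eq_one h2
    have h4 := orderOf_dvd_of_pow_eq_one hk
    obtain ⟨j, -, hj⟩ := (Nat.dvd_prime_pow Nat.prime_two).1 h4
    rcases Nat.eq_zero_or_pos j with h5 | h5
    · rw [h5, pow_zero] at hj
      exact orderOf_eq_one_iff.1 hj
    · exfalso
      apply P.not_dvd_index
      exact (dvd_pow_self 2 h5.ne').trans (hj ▸ h3)
  have bar_sub : ∀ {Q : Subgroup X} {x : K}, QuotientGroup.mk' (center K) x ∈ bar K Q → (x : X) ∈ Q := by
    intro Q x hx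
    obtain ⟨y, hy, c, hc, rfl⟩ := mem_bar.1 hx
    rw [hiii c hc, mul_one]
    exact hy
  rcases hZ with hZ | hZ
  · -- `Z ∩ K = 1`
    have hZK : ∀ x ∈ (A ⊓ B) ⊓ K, x = 1 := by
      intro x hx
      obtain ⟨hxZ, hxK⟩ := mem_inf.1 hx
      have h1 : QuotientGroup.mk' (center K) ⟨x, hxK⟩ ∈ bar K (A ⊓ B) :=
        mem_bar.2 ⟨⟨x, hxK⟩, hxZ, 1, one_mem _, (mul_one _).symm⟩
      rw [hZ, mem_bot] at h1
      have h2 : (⟨x, hxK⟩ : K) ∈ center K := (QuotientGroup.eq_one_iff _).1 h1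
      exact congrArg Subtype.val (hiii _ h2)
    apply h.inf_ne_bot
    rw [Subgroup.eq_bot_iff_forall]
    intro x hx
    obtain ⟨hxS, hxK⟩ := mem_inf.1 hx
    refine hZK x (mem_inf.2 ⟨?_, hxK⟩)
    apply h.ab.mem_Z_of_comm hxS
    intro t ht
    have h1 : t * x * t⁻¹ * x⁻¹ = 1 :=
      hZK _ (mem_inf.2 ⟨h.ab.comm_mem ht hxS, mul_mem (h.conj_K ht hxK) (inv_mem hxK)⟩)
    calc t * x = (t * x * t⁻¹ * x⁻¹) * (x * t) := by group
      _ = x * t := by rw [h1, one_mul]
  · -- `S ∩ K ≤ Z`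
    have hSZ : ∀ x ∈ (S : Subgroup X) ⊓ K, x ∈ A ⊓ B := by
      intro x hx
      obtain ⟨hxS, hxK⟩ := mem_inf.1 hx
      apply bar_sub (x := ⟨x, hxK⟩)
      rw [hZ, Sylow.coe_mapSurjective]
      exact ⟨⟨x, hxK⟩, hmP hxS, rfl⟩
    apply h.false_of_central
    intro x hx n hn
    obtain ⟨c, hc, hm⟩ := h.exists_mul_mem hn
    obtain ⟨⟨hc1, hc2, hc3⟩, hcK⟩ := mem_inf.1 hc
    set m := c * n with hmdef
    have hmK : m ∈ K := mul_mem hcK (mem_inf.1 hn).2
    have hxZ := hSZ x hx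
    have hcx : c * x = x * c := hc2 x (mem_inf.2 ⟨hxZ, (mem_inf.1 hx).2⟩)
    -- `m s m⁻¹ s⁻¹ ∈ Z` for `s ∈ S`
    have hf : ∀ s ∈ (S : Subgroup X), m * s * m⁻¹ * s⁻¹ ∈ A ⊓ B := by
      intro s hs
      apply hSZ
      refine mem_inf.2 ⟨mul_mem (conj_mem_of_mem_normalizer hm hs) (inv_mem hs), ?_⟩
      have := mul_mem hmK (h.conj_K hs (inv_mem hmK))
      convert this using 1
      group
    have hder : ⁅(S : Subgroup X), (S : Subgroup X)⁆ ≤ centralizer {m} := by
      rw [Subgroup.commutator_le]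
      intro s hs t ht
      rw [mem_centralizer_singleton_iff, commutatorElement_def]
      have hfs := hf s hs
      have hft := hf t ht
      set u := m * s * m⁻¹ * s⁻¹ with hu
      set v := m * t * m⁻¹ * t⁻¹ with hv
      have es : m * s * m⁻¹ = u * s := by rw [hu]; group
      have et : m * t * m⁻¹ = v * t := by rw [hv]; group
      have hu1 := fun {w : X} (hw : w ∈ (S : Subgroup X)) => h.ab.comm_Z hfs hw
      have hv1 := fun {w : X} (hw : w ∈ (S : Subgroup X)) => h.ab.comm_Z hft hw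
      have hvS := h.ab.Z_le hft
      have huS := h.ab.Z_le hfs
      have e1 : m * (s * t * s⁻¹ * t⁻¹) * m⁻¹ = s * t * s⁻¹ * t⁻¹ := by
        calc m * (s * t * s⁻¹ * t⁻¹) * m⁻¹
            = (m * s * m⁻¹) * (m * t * m⁻¹) * (m * s * m⁻¹)⁻¹ * (m * t * m⁻¹)⁻¹ := by group
          _ = u * (s * v) * t * s⁻¹ * u⁻¹ * t⁻¹ * v⁻¹ := by rw [es, et]; group
          _ = u * (v * (s * t * s⁻¹)) * u⁻¹ * t⁻¹ * v⁻¹ := by rw [← hv1 hs]; group
          _ = (v * (s * t * s⁻¹)) * u * u⁻¹ * t⁻¹ * v⁻¹ := by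
              rw [hu1 (mul_mem hvS (mul_mem (mul_mem hs ht) (inv_mem hs)))]
          _ = v * (s * t * s⁻¹ * t⁻¹) * v⁻¹ := by group
          _ = s * t * s⁻¹ * t⁻¹ := by
              rw [hv1 (mul_mem (mul_mem (mul_mem hs ht) (inv_mem hs)) (inv_mem ht)), mul_inv_cancel_right]
      calc s * t * s⁻¹ * t⁻¹ * m = (m * (s * t * s⁻¹ * t⁻¹) * m⁻¹) * m := by rw [e1]
        _ = m * (s * t * s⁻¹ * t⁻¹) := by group
    have hmx : x * m = m * x := mem_centralizer_singleton_iff.1 (hder (h.ab.der hxZ))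
    have e : n = c⁻¹ * m := by rw [hmdef]; group
    rw [e]
    calc c⁻¹ * m * x = c⁻¹ * (x * m) := by rw [hmx]; group
      _ = c⁻¹ * (x * c) * c⁻¹ * m := by group
      _ = c⁻¹ * (c * x) * c⁻¹ * m := by rw [hcx]
      _ = x * (c⁻¹ * m) := by group

theorem false (h1169 : H1169.{u}) (h1171 : H1171.{u}) (h : NCtx S A B K) : False := by
  obtain ⟨P, hP⟩ := h.exists_sylow
  have hs : IsSimpleGroup (K ⧸ center K) := h.comp.2.2
  have hna := h.not_comm_bar
  set P' := P.mapSurjective (QuotientGroup.mk'_surjective (center K)) with hP'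
  have hcA := h.closed_bar hP h.closedA
  have hcB := h.closed_bar hP h.closedB
  have hcZ := h.closed_bar hP h.closedZ
  have hcomm : ∀ {Q : Subgroup X}, (∀ x ∈ Q, ∀ y ∈ Q, x * y = y * x) → ∀ x ∈ bar K Q, ∀ y ∈ bar K Q,
      x * y = y * x := by
    rintro Q hQ _ ⟨x, hx, rfl⟩ _ ⟨y, hy, rfl⟩
    rw [← map_mul, ← map_mul]
    congr 1
    exact Subtype.ext (hQ x hx y hy)
  have hsq : ∀ {Q : Subgroup X}, (∀ x ∈ Q, x * x = 1) → ∀ x ∈ bar K Q, x * x = 1 := by
    rintro Q hQ _ ⟨x, hx, rfl⟩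
    rw [← map_mul]
    have : x * x = 1 := Subtype.ext (hQ x hx)
    rw [this, map_one]
  have hprod : ∀ x ∈ (P' : Subgroup (K ⧸ center K)), ∃ y ∈ bar K A, ∃ z ∈ bar K B, x = y * z := by
    intro x hx
    rw [hP', Sylow.coe_mapSurjective] at hx
    obtain ⟨x, hx, rfl⟩ := hx
    have hx' : (x : X) ∈ (S : Subgroup X) ⊓ K := by
      refine mem_inf.2 ⟨?_, x.2⟩
      have : x ∈ (S : Subgroup X).subgroupOf K := hP ▸ hx
      rwa [mem_subgroupOf] at this
    obtain ⟨a, ha, b, hb, e⟩ := h.exists_mul_inf hx'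
    refine ⟨_, ⟨⟨a, (mem_inf.1 ha).2⟩, (mem_inf.1 ha).1, rfl⟩, _, ⟨⟨b, (mem_inf.1 hb).2⟩, (mem_inf.1 hb).1, rfl⟩, ?_⟩
    rw [← map_mul]
    congr 1
    exact Subtype.ext e
  obtain ⟨hPc, hP2⟩ := comm_of_two_closed h1169 P' hcA hcB (hcomm h.ab.A_comm) (hcomm h.ab.B_comm)
    (hsq h.ab.A_sq) (hsq h.ab.B_sq) hprod
  have hZ := closed_eq_bot_or_eq h1171 hna P' hPc hP2 hcZ
  rcases closed_eq_bot_or_eq h1171 hna P' hPc hP2 hcA with hA | hA
  · rcases closed_eq_bot_or_eq h1171 hna P' hPc hP2 hcB with hB | hB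
    · -- `S ∩ K ≤ Z(K)`
      apply h.false_of_central
      intro x hx n hn
      obtain ⟨a, ha, b, hb, e⟩ := h.exists_mul_inf hx
      have cen : ∀ {Q : Subgroup X}, bar K Q = ⊥ → ∀ y ∈ Q ⊓ K, ∀ k ∈ K, k * y = y * k := by
        intro Q hQ y hy k hk
        obtain ⟨hyQ, hyK⟩ := mem_inf.1 hy
        have h1 : QuotientGroup.mk' (center K) ⟨y, hyK⟩ ∈ bar K Q :=
          mem_bar.2 ⟨⟨y, hyK⟩, hyQ, 1, one_mem _, (mul_one _).symm⟩
        rw [hQ, mem_bot] at h1
        have h2 : (⟨y, hyK⟩ : K) ∈ center K := (QuotientGroup.eq_one_iff _).1 h1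
        exact congrArg Subtype.val (mem_center_iff.1 h2 ⟨k, hk⟩)
      have hnK := (mem_inf.1 hn).2
      have h1 := cen hA a ha n hnK
      have h2 := cen hB b hb n hnK
      rw [e]
      calc n * (a * b) = (n * a) * b := by group
        _ = a * (n * b) := by rw [h1]; group
        _ = a * b * n := by rw [h2]; group
    · refine h.symm.false_of_bar_eq hP hB ?_
      rw [inf_comm]
      exact hZ
  · exact h.false_of_bar_eq hP hA hZ

end NCtx

/-- **No components** -/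
theorem not_hasComponent (h1169 : H1169.{u}) (h1171 : H1171.{u}) {S : Sylow 2 X} {A B : Subgroup X}
    (hab : IsAB (S : Subgroup X) A B) (hcore : Cfsg.oddCore X = ⊥)
    (hA : normalizer (A : Set X) ≤ normalizer ((A ⊓ B : Subgroup X) : Set X))
    (hB : normalizer (B : Set X) ≤ normalizer ((A ⊓ B : Subgroup X) : Set X)) : ¬ Cfsg.HasComponent X := by
  rintro ⟨K, hK⟩
  exact NCtx.false h1169 h1171 ⟨hab, hcore, hA, hB, hK⟩

end Cfsg.Agent.TypeL3
end

-- part: TypeL3/CharTwo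
section
prune_inst 0x200020040500100000180000000000002000000000000000000000000800004020000801000000000000008000040020000000000000000000000000000001200000400002340d00000000000000000000000000000000000000000000000000000000000
set_option linter.all false
open scoped Cfsg.Agent.FastGrp

/-!
# Centralisers of involutions

`G` simple with Sylow 2-subgroup `S = AB` of type `L₃(q)`, `q ≥ 4`: `C_G(z) ≤ N_G(S)` for `z ∈ Z`, `z ≠ 1`.
-/

set_option autoImplicit false

namespace Cfsg.Agent.TypeL3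

open Subgroup Cfsg.Agent.Lib.GoldschmidtFusion
open scoped commutatorElement

universe u

/-- the statement of the dichotomy theorem S1296 in universe `u` -/
def H1296 : Prop := ∀ (X : Type u) [Group X] [Finite X], Even (Nat.card X) →
  (∀ N : Subgroup X, N.Normal → N.index ≠ 2) → Cfsg.oddCore X = ⊥ →
    Cfsg.PRankLE 2 2 X ∨ Cfsg.IsComponentType X ∨ Cfsg.IsCharacteristicTwoType X

section general

variable {H : Type u} [Group H] [Finite H]

/-- a strongly closed elementary abelian subgroup lies in `O_2(H)` if `H` has characteristic 2 -/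
theorem le_pCore_of_closed (S : Sylow 2 H) {A : Subgroup H} (hA : Cfsg.IsStronglyClosed A (S : Subgroup H))
    (hAc : ∀ x ∈ A, ∀ y ∈ A, x * y = y * x) (hA2 : ∀ x ∈ A, x * x = 1)
    (hchar : Cfsg.IsOfCharacteristicTwo H) : A ≤ Cfsg.pCore 2 H := by
  set O := Cfsg.pCore 2 H with hO
  have hOn : O.Normal := Cfsg.Agent.Lib.Cores.pCore_normal 2
  have hOp : IsPGroup 2 O := Cfsg.Agent.Lib.Cores.pCore_isPGroup 2
  have hOS : O ≤ (S : Subgroup H) := hOp.le_sylow_of_normal S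
  set A0 := A ⊓ O with hA0
  have hA0n : ∀ g : H, g ∈ normalizer (A0 : Set H) := by
    intro g
    rw [mem_normalizer_iff_map_conj]
    apply Subgroup.eq_of_le_of_card_ge _ (by rw [card_map_conj])
    rintro _ ⟨x, hx, rfl⟩
    obtain ⟨hxA, hxO⟩ := mem_inf.1 hx
    have h1 : g * x * g⁻¹ ∈ O := hOn.conj_mem x hxO g
    exact mem_inf.2 ⟨hA.2 x hxA g (hOS h1), h1⟩
  have hOn' : ∀ g : H, g ∈ normalizer (O : Set H) := by
    intro g
    rw [Subgroup.normalizer_eq_top_iff.2 hOn]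
    exact mem_top g
  set W := IsAB.chainStab A0 O with hW
  have hAW : A ≤ W := by
    intro a ha
    refine ⟨hOn' a, fun z hz => hAc a ha z (mem_inf.1 hz).1, fun x hx => ?_⟩
    have h1 : a * x * a⁻¹ * x⁻¹ ∈ O := mul_mem (hOn.conj_mem x hx a) (inv_mem hx)
    refine mem_inf.2 ⟨?_, h1⟩
    have h2 : x * a⁻¹ * x⁻¹ ∈ A := by
      apply hA.2 _ (inv_mem ha)
      exact mul_mem (mul_mem (hOS hx) (inv_mem (hA.1 ha))) (inv_mem (hOS hx))
    have h3 := mul_mem ha h2
    convert h3 using 1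
    group
  have hWn : W.Normal := ⟨fun r hr g => conj_mem_chainStab (hA0n g) (hOn' g) hr⟩
  have hWp : IsPGroup 2 W := by
    rintro ⟨r, hr⟩
    obtain ⟨hr1, hr2, hr3⟩ := hr
    have hsq : r * r ∈ centralizer (O : Set H) := by
      rw [mem_centralizer_iff]
      intro x hx
      set z := r * x * r⁻¹ * x⁻¹ with hz
      have hzA : z ∈ A0 := hr3 x hx
      have e1 : r * x * r⁻¹ = z * x := by rw [hz]; group
      have hzz : z * z = 1 := hA2 z (mem_inf.1 hzA).1
      have e2 : r * r * x * (r * r)⁻¹ = x := by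
        calc r * r * x * (r * r)⁻¹ = r * (r * x * r⁻¹) * r⁻¹ := by group
          _ = (r * z) * x * r⁻¹ := by rw [e1]; group
          _ = z * (r * x * r⁻¹) := by rw [hr2 z hzA]; group
          _ = z * z * x := by rw [e1]; group
          _ = x := by rw [hzz, one_mul]
      calc x * (r * r) = (r * r * x * (r * r)⁻¹) * (r * r) := by rw [e2]
        _ = r * r * x := by group
    have hsqO : r * r ∈ O := hchar hsq
    obtain ⟨k, hk⟩ := hOp ⟨_, hsqO⟩
    refine ⟨k + 1, Subtype.ext ?_⟩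
    have hk' : (r * r) ^ 2 ^ k = 1 := congrArg Subtype.val hk
    show r ^ 2 ^ (k + 1) = 1
    rw [pow_succ', pow_mul, pow_two, hk']
  exact hAW.trans (Cfsg.Agent.Lib.Cores.le_pCore hWn hWp)

/-- normalisers of 2-subgroups modulo an odd normal subgroup -/
theorem exists_normalizer_lift {O A : Subgroup H} [hO : O.Normal] (hOodd : (Nat.card O).Coprime 2)
    (hA : IsPGroup 2 A) {g : H}
    (hg : QuotientGroup.mk' O g ∈ normalizer ((A.map (QuotientGroup.mk' O) : Subgroup (H ⧸ O)) : Set (H ⧸ O))) :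
    ∃ o ∈ O, o * g ∈ normalizer (A : Set H) := by
  have hmem : ∀ x, x ∈ A ⊔ O ↔ ∃ a ∈ A, ∃ b ∈ O, x = a * b := by
    intro x
    apply mem_sup_of_le_normalizer
    rw [Subgroup.normalizer_eq_top_iff.2 hO]
    exact le_top
  -- `A` is Sylow in `A O`
  have hdvd : A.relIndex (A ⊔ O) ∣ Nat.card O := by
    have h1 := Cfsg.Agent.Lib.Cores.card_sup_dvd O A hO
    have h2 : Nat.card A * A.relIndex (A ⊔ O) = Nat.card (A ⊔ O : Subgroup H) := by
      rw [← relIndex_bot_left, ← relIndex_bot_left]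
      exact relIndex_mul_relIndex ⊥ A (A ⊔ O) bot_le le_sup_left
    rw [sup_comm, ← h2, mul_comm (Nat.card O)] at h1
    exact Nat.dvd_of_mul_dvd_mul_left Nat.card_pos h1
  have hi : ¬ 2 ∣ A.relIndex (A ⊔ O) := by
    intro hd
    have h1 := hd.trans hdvd
    have h2 : Nat.gcd (Nat.card O) 2 = 2 := Nat.gcd_eq_right h1
    rw [Nat.Coprime] at hOodd
    omega
  have hle : A.map (MulAut.conj g).toMonoidHom ≤ A ⊔ O := by
    rintro _ ⟨a, ha, rfl⟩
    have h1 := conj_mem_of_mem_normalizer hg (⟨a, ha, rfl⟩ : QuotientGroup.mk' O a ∈ A.map (QuotientGroup.mk' O))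
    rw [← map_inv, ← map_mul, ← map_mul] at h1
    obtain ⟨b, hb, e⟩ := h1
    have h2 : b⁻¹ * (g * a * g⁻¹) ∈ O := QuotientGroup.eq.1 e
    exact (hmem _).2 ⟨b, hb, b⁻¹ * (g * a * g⁻¹), h2, by simp⟩
  obtain ⟨r, hr, hrle⟩ := exists_conj_le_in (p := 2) hA hi hle (hA.map _)
  rw [map_conj_map_conj] at hrle
  obtain ⟨a, ha, o, ho, rfl⟩ := (hmem r).1 hr
  refine ⟨o, ho, ?_⟩
  have h1 : a * o * g ∈ normalizer (A : Set H) :=
    mem_normalizer_iff_map_conj.2 (map_conj_le_of_le_normalizer hrle)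
  have := mul_mem (inv_mem (le_normalizer ha)) h1
  simpa [mul_assoc] using this

end general

variable {G : Type u} [Group G] [Finite G] {A B : Subgroup G} {q : ℕ}

namespace IsL3

variable {S : Sylow 2 G}

omit [Finite G] in
theorem coe_mem_normalizer_subgroupOf {C Q : Subgroup G} (hQ : Q ≤ C) {x : C} :
    x ∈ normalizer ((Q.subgroupOf C : Subgroup C) : Set C) ↔ (x : G) ∈ normalizer (Q : Set G) := by
  rw [← coe_mem_normalizer_map, Subgroup.map_subgroupOf_eq_of_le hQ]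

omit [Finite G] in
theorem le_centralizer (h : IsL3 (S : Subgroup G) A B q) {z : G} (hz : z ∈ A ⊓ B) :
    (S : Subgroup G) ≤ centralizer {z} := by
  intro s hs
  rw [mem_centralizer_singleton_iff]
  exact (h.comm_Z hz hs).symm

/-- in `C_G(z)` the subgroup `Z` is normalised by `N(A)` -/
theorem normalizer_le_in_centralizer (h : IsL3 (S : Subgroup G) A B q) {z : G} (hz : z ∈ A ⊓ B) (hz1 : z ≠ 1)
    {x : centralizer {z}}
    (hx : x ∈ normalizer ((A.subgroupOf (centralizer {z}) : Subgroup (centralizer {z})) : Set (centralizer {z}))) :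
    x ∈ normalizer (((A.subgroupOf (centralizer {z}) ⊓ B.subgroupOf (centralizer {z})) :
      Subgroup (centralizer {z})) : Set (centralizer {z})) := by
  have hS := h.le_centralizer hz
  rw [coe_mem_normalizer_subgroupOf (h.A_le.trans hS)] at hx
  have e : A.subgroupOf (centralizer {z}) ⊓ B.subgroupOf (centralizer {z}) =
      (A ⊓ B).subgroupOf (centralizer {z}) := rfl
  rw [e, coe_mem_normalizer_subgroupOf (h.Z_le.trans hS)]
  apply h.ti hx hz hz1
  have := mem_centralizer_singleton_iff.1 x.2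
  rw [this, mul_inv_cancel_right]
  exact hz

/-- `C_G(z)/O(C_G(z))` has no component -/
theorem not_hasComponent (h1169 : H1169.{u}) (h1171 : H1171.{u}) (h : IsL3 (S : Subgroup G) A B q) {z : G}
    (hz : z ∈ A ⊓ B) (hz1 : z ≠ 1) :
    ¬ Cfsg.HasComponent (centralizer ({z} : Set G) ⧸ Cfsg.oddCore (centralizer ({z} : Set G))) := by
  set C := centralizer ({z} : Set G) with hC
  have hSC : (S : Subgroup G) ≤ C := h.le_centralizer hz
  set O := Cfsg.oddCore C with hO
  have hOn : O.Normal := Cfsg.Agent.Lib.Cores.pPrimeCore_normal 2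
  have hOodd : (Nat.card O).Coprime 2 := Cfsg.Agent.Lib.Cores.pPrimeCore_coprime 2
  let SC : Sylow 2 C := S.subtype hSC
  have hSCc : (SC : Subgroup C) = (S : Subgroup G).subgroupOf C := rfl
  let SX := SC.mapSurjective (QuotientGroup.mk'_surjective O)
  have hAB : IsAB (SC : Subgroup C) (A.subgroupOf C) (B.subgroupOf C) := h.toIsAB.subgroupOf hSC
  -- injectivity on `S`
  have hinj : ∀ x ∈ (SC : Subgroup C), QuotientGroup.mk' O x = 1 → x = 1 := by
    intro x hx hx1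
    have hxO : x ∈ O := (QuotientGroup.eq_one_iff _).1 hx1
    have h1 : orderOf x ∣ Nat.card O := by
      have := orderOf_dvd_natCard (⟨x, hxO⟩ : O)
      rwa [← Subgroup.orderOf_coe] at this
    obtain ⟨k, hk⟩ := SC.isPGroup' ⟨x, hx⟩
    have h2 : orderOf x ∣ 2 ^ k := orderOf_dvd_of_pow_eq_one (congrArg Subtype.val hk)
    have h3 : orderOf x ∣ Nat.gcd (Nat.card O) (2 ^ k) := Nat.dvd_gcd h1 h2
    rw [Nat.Coprime.pow_right k hOodd] at h3
    exact orderOf_eq_one_iff.1 (Nat.dvd_one.1 h3)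
  have hABX : IsAB (SX : Subgroup (C ⧸ O)) ((A.subgroupOf C).map (QuotientGroup.mk' O))
      ((B.subgroupOf C).map (QuotientGroup.mk' O)) := hAB.map _ hinj
  have hcore : Cfsg.oddCore (C ⧸ O) = ⊥ := Cfsg.Agent.Lib.Cores.pPrimeCore_quotient_pPrimeCore 2
  have hinf : (A.subgroupOf C).map (QuotientGroup.mk' O) ⊓ (B.subgroupOf C).map (QuotientGroup.mk' O) =
      (A.subgroupOf C ⊓ B.subgroupOf C).map (QuotientGroup.mk' O) := IsAB.map_inf_of_ker hAB.A_le hAB.B_le hinj
  have step : ∀ (A B : Subgroup C), IsAB (SC : Subgroup C) A B →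
      (∀ x ∈ normalizer (A : Set C), x ∈ normalizer ((A ⊓ B : Subgroup C) : Set C)) →
      normalizer ((A.map (QuotientGroup.mk' O) : Subgroup (C ⧸ O)) : Set (C ⧸ O)) ≤
        normalizer (((A ⊓ B).map (QuotientGroup.mk' O) : Subgroup (C ⧸ O)) : Set (C ⧸ O)) := by
    intro A B hAB hN x hx
    obtain ⟨g, rfl⟩ := QuotientGroup.mk'_surjective O x
    have hAp : IsPGroup 2 A := SC.isPGroup'.to_le hAB.A_le
    obtain ⟨o, ho, hog⟩ := exists_normalizer_lift hOodd hAp hx
    have h1 := hN _ hog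
    have e : QuotientGroup.mk' O g = QuotientGroup.mk' O (o * g) := by
      rw [map_mul, (QuotientGroup.eq_one_iff o).2 ho |> (fun h => (h : QuotientGroup.mk' O o = 1)), one_mul]
    rw [e]
    exact Subgroup.le_normalizer_map (QuotientGroup.mk' O) ⟨_, h1, rfl⟩
  apply TypeL3.not_hasComponent h1169 h1171 hABX hcore
  · rw [hinf]
    exact step _ _ hAB (fun x hx => h.normalizer_le_in_centralizer hz hz1 hx)
  · rw [hinf, inf_comm (A.subgroupOf C)]
    exact step _ _ hAB.symm (fun x hx => h.symm.normalizer_le_in_centralizer (inf_comm A B ▸ hz) hz1 hx)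

/-- every involution is conjugate to an element of `Z` -/
theorem exists_conj_Z (h : IsL3 (S : Subgroup G) A B q)
    (hNA : ¬ normalizer (A : Set G) ≤ normalizer ((A ⊓ B : Subgroup G) : Set G))
    (hNB : ¬ normalizer (B : Set G) ≤ normalizer ((A ⊓ B : Subgroup G) : Set G)) {t : G} (ht : t * t = 1) :
    ∃ k : G, k * t * k⁻¹ ∈ A ⊓ B := by
  have hzp : IsPGroup 2 (zpowers t) := by
    rw [IsPGroup.iff_card]
    rcases eq_or_ne t 1 with rfl | ht1
    · exact ⟨0, by simp⟩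
    · exact ⟨1, by rw [Nat.card_zpowers, orderOf_eq_two_of_sq ht ht1, pow_one]⟩
  obtain ⟨g, -, hle⟩ := exists_conj_le_in (p := 2) (N := ⊤) S.isPGroup'
    (sylow_not_dvd_relIndex S le_top) (le_top : zpowers t ≤ ⊤) hzp
  have h1 : g * t * g⁻¹ ∈ (S : Subgroup G) := hle ⟨t, mem_zpowers t, by simp⟩
  have h2 : g * t * g⁻¹ * (g * t * g⁻¹) = 1 := by
    calc g * t * g⁻¹ * (g * t * g⁻¹) = g * (t * t) * g⁻¹ := by group
      _ = 1 := by rw [ht]; group
  rcases h.inv _ h1 h2 with h3 | h3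
  · obtain ⟨n, -, hn⟩ := h.exists_conj_mem_Z hNA h3
    refine ⟨n * g, ?_⟩
    convert hn using 1
    group
  · obtain ⟨n, -, hn⟩ := h.symm.exists_conj_mem_Z (by rw [inf_comm]; exact hNB) h3
    refine ⟨n * g, ?_⟩
    rw [inf_comm] at hn
    convert hn using 1
    group

omit [Finite G] in
theorem four_lt_card (h : IsL3 (S : Subgroup G) A B q) (hq : 4 ≤ q) : 4 < Nat.card A := by
  rw [h.card_A]
  nlinarith

/-- `G` is of characteristic 2 type -/
theorem characteristicTwoType (h1169 : H1169.{u}) (h1171 : H1171.{u}) (h1296 : H1296.{u}) [IsSimpleGroup G]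
    (h : IsL3 (S : Subgroup G) A B q) (hq : 4 ≤ q) : Cfsg.IsCharacteristicTwoType G := by
  have hNA := h.not_normalizer_le h1169
  have hNB := h.not_normalizer_le' h1169
  have hcardA := h.four_lt_card hq
  have hle : Nat.card A ≤ Nat.card G := Nat.card_le_card_of_injective _ A.subtype_injective
  obtain ⟨z, hz, hz1⟩ : ∃ z ∈ A ⊓ B, z ≠ 1 := by
    by_contra h0
    push Not at h0
    exact h.Z_ne_bot ((Subgroup.eq_bot_iff_forall _).2 h0)
  have heven : Even (Nat.card G) := by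
    have h1 := orderOf_dvd_natCard z
    rw [orderOf_eq_two_of_sq (h.A_sq z (mem_inf.1 hz).1) hz1] at h1
    exact (even_iff_two_dvd).2 h1
  have hS : (S : Subgroup G) ≠ ⊥ := by
    intro h0
    have := h.A_le (mem_inf.1 hz).1
    rw [h0, mem_bot] at this
    exact hz1 this
  have hidx : ∀ N : Subgroup G, N.Normal → N.index ≠ 2 := by
    intro N hN hind
    rcases hN.eq_bot_or_eq_top with h2 | h2
    · rw [h2, Subgroup.index_bot] at hind
      omega
    · rw [h2, Subgroup.index_top] at hind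
      omega
  rcases h1296 G heven hidx (oddCore_eq_bot_of_simple S hS) with h1 | h1 | h1
  · exfalso
    have hc : IsMulCommutative A := ⟨⟨fun x y => Subtype.ext (h.A_comm x x.2 y y.2)⟩⟩
    have := h1 A hc (fun a ha => by rw [pow_two]; exact h.A_sq a ha)
    omega
  · exfalso
    obtain ⟨t, ht, hcomp⟩ := h1
    have ht2 : t * t = 1 := by rw [← pow_two, ← ht]; exact pow_orderOf_eq_one t
    obtain ⟨k, hk⟩ := h.exists_conj_Z hNA hNB ht2
    have h2 := h.map_conj k⁻¹
    have e : (S : Subgroup G).map (MulAut.conj k⁻¹).toMonoidHom = ((k⁻¹ • S : Sylow 2 G) : Subgroup G) := rfl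
    rw [e] at h2
    have ht1 : t ≠ 1 := by
      rintro rfl
      rw [orderOf_one] at ht
      omega
    refine h2.not_hasComponent h1169 h1171 ?_ ht1 hcomp
    rw [← Subgroup.map_inf _ _ _ (MulAut.conj k⁻¹).injective, mem_map_conj, inv_inv]
    exact hk
  · exact h1

omit [Finite G] in
theorem centralizer_eq_normalizer_zpowers {z : G} (hz : z * z = 1) :
    normalizer ((zpowers z : Subgroup G) : Set G) = centralizer {z} := by
  have hmem : ∀ x ∈ zpowers z, x = 1 ∨ x = z := by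
    intro x hx
    obtain ⟨n, rfl⟩ := mem_zpowers_iff.1 hx
    rcases Int.even_or_odd n with ⟨m, rfl⟩ | ⟨m, rfl⟩
    · left
      rw [zpow_add, ← (Commute.refl z).mul_zpow, hz, one_zpow]
    · right
      rw [zpow_add, zpow_one, two_mul, zpow_add, ← (Commute.refl z).mul_zpow, hz, one_zpow, one_mul]
  apply le_antisymm
  · intro g hg
    rw [mem_centralizer_singleton_iff]
    by_cases hz1 : z = 1
    · rw [hz1]; simp
    have h1 := conj_mem_of_mem_normalizer hg (mem_zpowers z)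
    rcases hmem _ h1 with h2 | h2
    · exfalso
      apply hz1
      have := congrArg (fun t => g⁻¹ * t * g) h2
      simpa [mul_assoc] using this
    · nth_rewrite 2 [← h2]
      group
  · intro g hg
    have hg' := mem_centralizer_singleton_iff.1 hg
    apply centralizer_le_normalizer
    rw [mem_centralizer_iff]
    intro x hx
    rcases hmem x hx with rfl | rfl
    · simp
    · exact hg'.symm

/-- `C_G(z) ≤ N_G(S)` -/
theorem centralizer_le (h1169 : H1169.{u}) (h1171 : H1171.{u}) (h1296 : H1296.{u}) [IsSimpleGroup G]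
    (h : IsL3 (S : Subgroup G) A B q) (hq : 4 ≤ q) {z : G} (hz : z ∈ A ⊓ B) (hz1 : z ≠ 1) :
    centralizer {z} ≤ normalizer ((S : Subgroup G) : Set G) := by
  have hz2 := h.A_sq z (mem_inf.1 hz).1
  have hchar := (h.characteristicTwoType h1169 h1171 h1296 hq).2 (zpowers z) (by
    rw [IsPGroup.iff_card]
    exact ⟨1, by rw [Nat.card_zpowers, orderOf_eq_two_of_sq hz2 hz1, pow_one]⟩)
    (by rw [Ne, zpowers_eq_bot]; exact hz1)
  rw [centralizer_eq_normalizer_zpowers hz2] at hchar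
  set C := centralizer ({z} : Set G) with hC
  have hSC : (S : Subgroup G) ≤ C := h.le_centralizer hz
  let SC : Sylow 2 C := S.subtype hSC
  have hAB : IsAB (SC : Subgroup C) (A.subgroupOf C) (B.subgroupOf C) := h.toIsAB.subgroupOf hSC
  have hcA : Cfsg.IsStronglyClosed (A.subgroupOf C) (SC : Subgroup C) := by
    apply hAB.stronglyClosed_A
    intro x hx
    rw [inf_comm]
    exact h.symm.normalizer_le_in_centralizer (inf_comm A B ▸ hz) hz1 hx
  have hcB : Cfsg.IsStronglyClosed (B.subgroupOf C) (SC : Subgroup C) := by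
    apply hAB.stronglyClosed_B
    intro x hx
    exact h.normalizer_le_in_centralizer hz hz1 hx
  have hOA := le_pCore_of_closed SC hcA hAB.A_comm hAB.A_sq hchar
  have hOB := le_pCore_of_closed SC hcB hAB.B_comm hAB.B_sq hchar
  have hn : (Cfsg.pCore 2 C).Normal := Cfsg.Agent.Lib.Cores.pCore_normal 2
  have hle : Cfsg.pCore 2 C ≤ (SC : Subgroup C) := Cfsg.Agent.Lib.Cores.pCore_le_sylow SC
  intro g hg
  rw [mem_normalizer_iff_map_conj]
  apply Subgroup.eq_of_le_of_card_ge _ (by rw [card_map_conj])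
  rintro _ ⟨s, hs, rfl⟩
  obtain ⟨a, ha, b, hb, e⟩ := hAB.prod ⟨s, hSC hs⟩ (by
    show (⟨s, hSC hs⟩ : C) ∈ (S : Subgroup G).subgroupOf C
    rw [mem_subgroupOf]; exact hs)
  have h1 : (⟨s, hSC hs⟩ : C) ∈ Cfsg.pCore 2 C := by
    rw [← e]
    exact mul_mem (hOA ha) (hOB hb)
  have h2 := hle (hn.conj_mem _ h1 ⟨g, hg⟩)
  have h3 : (⟨g, hg⟩ * ⟨s, hSC hs⟩ * (⟨g, hg⟩ : C)⁻¹ : C) ∈ (S : Subgroup G).subgroupOf C := h2
  rw [mem_subgroupOf] at h3
  exact h3

/-- `N(A) ∩ N(Z) ≤ N(S)` -/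
theorem mem_normalizer_S (h1169 : H1169.{u}) (h1171 : H1171.{u}) (h1296 : H1296.{u}) [IsSimpleGroup G]
    (h : IsL3 (S : Subgroup G) A B q) (hq : 4 ≤ q) {g z : G} (hz : z ∈ A ⊓ B) (hz1 : z ≠ 1)
    (hgz : g * z * g⁻¹ ∈ A ⊓ B) : g ∈ normalizer ((S : Subgroup G) : Set G) := by
  have h0 : g * z * g⁻¹ ≠ 1 := by
    intro h1
    apply hz1
    have := congrArg (fun t => g⁻¹ * t * g) h1
    simpa [mul_assoc] using this
  have hle : (S : Subgroup G).map (MulAut.conj g).toMonoidHom ≤ normalizer ((S : Subgroup G) : Set G) := by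
    refine le_trans ?_ (h.centralizer_le h1169 h1171 h1296 hq hgz h0)
    rintro _ ⟨s, hs, rfl⟩
    rw [mem_centralizer_singleton_iff]
    show g * s * g⁻¹ * (g * z * g⁻¹) = g * z * g⁻¹ * (g * s * g⁻¹)
    have := h.comm_Z hz hs
    calc g * s * g⁻¹ * (g * z * g⁻¹) = g * (s * z) * g⁻¹ := by group
      _ = g * z * g⁻¹ * (g * s * g⁻¹) := by rw [← this]; group
  have hp : IsPGroup 2 ((S : Subgroup G).map (MulAut.conj g).toMonoidHom : Subgroup G) := S.isPGroup'.map _
  have h1 : (S : Subgroup G).map (MulAut.conj g).toMonoidHom ⊓ normalizer ((S : Subgroup G) : Set G) =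
    (S : Subgroup G).map (MulAut.conj g).toMonoidHom ⊓ (S : Subgroup G) := hp.inf_normalizer_sylow S
  rw [inf_eq_left.2 hle] at h1
  rw [mem_normalizer_iff_map_conj]
  exact Subgroup.eq_of_le_of_card_ge (inf_eq_left.1 h1.symm) (by rw [card_map_conj])

end IsL3

end Cfsg.Agent.TypeL3
end

-- part: HexGlob/MinPlus
section
set_option linter.all false
open scoped Cfsg.Agent.FastGrp

/-!
# Strongly closed elementary abelian subgroups of simple groups (piece A1)

`L` finite simple nonabelian, `P` a Sylow 2-subgroup, `A ≠ 1` an elementary abelian subgroup, strongly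
closed in `P`.  Then `A` contains all involutions of `P` and they are central in `P`.
-/

set_option autoImplicit false

namespace Cfsg.Agent.HexGlob.MinPlus

open Subgroup Cfsg.Agent.Lib.GoldschmidtFusion Cfsg.Agent.TypeL3
open Cfsg.Agent.TwoFusion.StronglyEmbeddedBasic
open scoped commutatorElement

universe u

/-- the consequence of Bender's theorem used here, in universe `u`: a strongly embedded subgroup of a
nonabelian simple group normalises one of its Sylow 2-subgroups -/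
def HBend : Prop := ∀ (X : Type u) [Group X] [Finite X] [IsSimpleGroup X], (∃ a b : X, a * b ≠ b * a) →
  ∀ H : Subgroup X, Cfsg.IsStronglyEmbedded H →
    ∃ P : Sylow 2 X, (P : Subgroup X) ≤ H ∧ H ≤ normalizer ((P : Subgroup X) : Set X)

variable {L : Type u} [Group L] [Finite L]

/-- the case of an abelian Sylow 2-subgroup -/
theorem mem_of_abelian (h1171 : H1171.{u}) [IsSimpleGroup L] (hna : ∃ a b : L, a * b ≠ b * a) (P : Sylow 2 L)
    (hPc : ∀ x ∈ (P : Subgroup L), ∀ y ∈ (P : Subgroup L), x * y = y * x) {Q : Subgroup L}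
    (hQ : Cfsg.IsStronglyClosed Q (P : Subgroup L)) (hQ2 : ∀ x ∈ Q, x * x = 1) (hQ0 : Q ≠ ⊥) {t : L}
    (ht : t ∈ (P : Subgroup L)) (ht2 : t * t = 1) : t ∈ Q := by
  classical
  have hPne : (P : Subgroup L) ≠ ⊥ := fun h => hQ0 (le_bot_iff.1 (h ▸ hQ.1))
  have hcore := oddCore_eq_bot_of_simple P hPne
  -- `Om` the subgroup of the `x` with `x² = 1`
  let Om : Subgroup L :=
    { carrier := {x | x ∈ (P : Subgroup L) ∧ x * x = 1}
      mul_mem' := by
        rintro a b ⟨ha, ha2⟩ ⟨hb, hb2⟩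
        refine ⟨mul_mem ha hb, ?_⟩
        calc a * b * (a * b) = a * (b * a) * b := by group
          _ = (a * a) * (b * b) := by rw [hPc b hb a ha]; group
          _ = 1 := by rw [ha2, hb2, one_mul]
      one_mem' := ⟨one_mem _, one_mul _⟩
      inv_mem' := by
        rintro a ⟨ha, ha2⟩
        refine ⟨inv_mem ha, ?_⟩
        rw [← mul_inv_rev, ha2, inv_one] }
  have hOm : ∀ {x : L}, x ∈ Om ↔ x ∈ (P : Subgroup L) ∧ x * x = 1 := Iff.rfl
  have hOmP : Om ≤ (P : Subgroup L) := fun x hx => hx.1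
  have hQOm : Q ≤ Om := fun x hx => ⟨hQ.1 hx, hQ2 x hx⟩
  let _ : CommGroup Om :=
    { (inferInstance : Group Om) with
      mul_comm := fun x y => Subtype.ext (hPc x x.2.1 y y.2.1) }
  -- the action of `N(P)` on `Om`
  let N := normalizer ((P : Subgroup L) : Set L)
  have hNOm : N ≤ normalizer (Om : Set L) := by
    intro n hn
    rw [mem_normalizer_iff_map_conj]
    apply Subgroup.eq_of_le_of_card_ge _ (by rw [card_map_conj])
    rintro _ ⟨x, hx, rfl⟩
    refine ⟨conj_mem_of_mem_normalizer hn hx.1, ?_⟩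
    show n * x * n⁻¹ * (n * x * n⁻¹) = 1
    calc n * x * n⁻¹ * (n * x * n⁻¹) = n * (x * x) * n⁻¹ := by group
      _ = 1 := by rw [hx.2]; group
  let φ : N →* MulAut Om := (Om.normalizerMonoidHom).comp (Subgroup.inclusion hNOm)
  have hφ : ∀ (n : N) (x : Om), ((φ n x : Om) : L) = n * x * (n : L)⁻¹ := fun n x => rfl
  let A := φ.range
  have hcop : (Nat.card A).Coprime (Nat.card Om) := by
    obtain ⟨k, hk⟩ := IsPGroup.iff_card.1 (P.isPGroup'.to_le hOmP)
    rw [hk]
    apply Nat.Coprime.pow_right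
    rw [Nat.coprime_comm, Nat.Prime.coprime_iff_not_dvd Nat.prime_two]
    intro hd
    have h1 : Nat.card A = φ.ker.index := (Subgroup.index_ker φ).symm
    have h2 : (P : Subgroup L).subgroupOf N ≤ φ.ker := by
      intro n hn
      rw [mem_subgroupOf] at hn
      rw [MonoidHom.mem_ker]
      ext x
      rw [hφ, MulAut.one_apply, hPc n hn x x.2.1, mul_inv_cancel_right]
    have h3 : φ.ker.index ∣ ((P : Subgroup L).subgroupOf N).index := Subgroup.index_dvd_of_le h2
    apply P.not_dvd_index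
    rw [h1] at hd
    exact (hd.trans h3).trans (relIndex_dvd_index_of_le le_normalizer)
  let U := Q.subgroupOf Om
  obtain ⟨W, hW⟩ := Cfsg.Agent.Lib.FrattiniPGroup.exists_isCompl_of_elementary (p := 2)
    (fun a b : Om => mul_comm a b)
    (fun a => Subtype.ext (by rw [Subgroup.coe_pow, pow_two]; exact a.2.2)) U
  have hU : ∀ a : A, ∀ u ∈ U, (A.subtype a) u ∈ U := by
    rintro ⟨_, n, rfl⟩ u hu
    rw [mem_subgroupOf] at hu ⊢
    show ((φ n u : Om) : L) ∈ Q
    rw [hφ]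
    exact hQ.2 u hu n ((φ n u).2.1)
  obtain ⟨W', hW', hinf, hsup⟩ := Cfsg.Agent.S0660.exists_invariant_complement A.subtype hcop U W hU
    hW.inf_eq_bot hW.sup_eq_top
  let R := W'.map Om.subtype
  have hROm : R ≤ Om := by
    rintro _ ⟨x, -, rfl⟩
    exact x.2
  have hRP : R ≤ (P : Subgroup L) := hROm.trans hOmP
  have hPcomm : IsMulCommutative (P : Subgroup L) := ⟨⟨fun x y => Subtype.ext (hPc x x.2 y y.2)⟩⟩
  have hR : Cfsg.IsStronglyClosed R (P : Subgroup L) := by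
    refine ⟨hRP, ?_⟩
    rintro _ ⟨x, hx, rfl⟩ g hg
    have hg' : g⁻¹⁻¹ * (x : L) * g⁻¹ ∈ (P : Subgroup L) := by rw [inv_inv]; exact hg
    obtain ⟨n, hn, e⟩ := P.conj_eq_normalizer_conj_of_mem (x : L) g⁻¹ x.2.1 hg'
    rw [inv_inv] at e
    have h1 := hW' ⟨φ ⟨n⁻¹, inv_mem hn⟩, ⟨_, rfl⟩⟩ x hx
    refine ⟨_, h1, ?_⟩
    show ((φ ⟨n⁻¹, inv_mem hn⟩ x : Om) : L) = g * x * g⁻¹
    rw [hφ, e]
    simp
  have hQR : Q ⊓ R = ⊥ := by
    rw [Subgroup.eq_bot_iff_forall]
    intro x hx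
    obtain ⟨hxQ, w, hw, rfl⟩ := mem_inf.1 hx
    have h1 : w ∈ U ⊓ W' := mem_inf.2 ⟨by rw [mem_subgroupOf]; exact hxQ, hw⟩
    rw [hinf, mem_bot] at h1
    rw [h1]; rfl
  have hC := h1171 L P Q R hQR hQ hR
  rw [hcore] at hC
  have hC' : ∀ a ∈ Subgroup.normalClosure (Q : Set L), ∀ b ∈ Subgroup.normalClosure (R : Set L),
      a * b = b * a := by
    intro a ha b hb
    have h1 : ⁅a, b⁆ ∈ (⊥ : Subgroup L) := hC (commutator_mem_commutator ha hb)
    rw [mem_bot] at h1
    exact commutatorElement_eq_one_iff_mul_comm.1 h1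
  have hQt : Subgroup.normalClosure (Q : Set L) = ⊤ := by
    rcases (Subgroup.normalClosure_normal (s := (Q : Set L))).eq_bot_or_eq_top with h | h
    · exfalso
      apply hQ0
      exact le_bot_iff.1 (h ▸ Subgroup.subset_normalClosure)
    · exact h
  have hR0 : R = ⊥ := by
    by_contra hR0
    have hRt : Subgroup.normalClosure (R : Set L) = ⊤ := by
      rcases (Subgroup.normalClosure_normal (s := (R : Set L))).eq_bot_or_eq_top with h | h
      · exfalso
        apply hR0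
        exact le_bot_iff.1 (h ▸ Subgroup.subset_normalClosure)
      · exact h
    obtain ⟨a, b, hab⟩ := hna
    exact hab (hC' a (hQt ▸ mem_top a) b (hRt ▸ mem_top b))
  have hW0 : W' = ⊥ := (Subgroup.map_eq_bot_iff_of_injective _ Om.subtype_injective).1 hR0
  rw [hW0, sup_bot_eq] at hsup
  have h1 : (⟨t, ht, ht2⟩ : Om) ∈ U := by rw [hsup]; trivial
  rw [mem_subgroupOf] at h1
  exact h1

/-- **A1** -/
theorem mem_and_comm (h1169 : H1169.{u}) (h1171 : H1171.{u}) (hbend : HBend.{u}) [IsSimpleGroup L]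
    (hna : ∃ a b : L, a * b ≠ b * a) (P : Sylow 2 L) {A : Subgroup L}
    (hA : Cfsg.IsStronglyClosed A (P : Subgroup L)) (hA0 : A ≠ ⊥) (hAc : ∀ x ∈ A, ∀ y ∈ A, x * y = y * x)
    (hA2 : ∀ x ∈ A, x * x = 1) {t : L} (ht : t ∈ (P : Subgroup L)) (ht2 : t * t = 1) :
    t ∈ A ∧ ∀ s ∈ (P : Subgroup L), s * t = t * s := by
  have hcomm : IsMulCommutative A := ⟨⟨fun x y => Subtype.ext (hAc x x.2 y y.2)⟩⟩
  rcases h1169 L P A hA0 hcomm hA with h1 | ⟨H, hH⟩
  · have hPc : ∀ x ∈ (P : Subgroup L), ∀ y ∈ (P : Subgroup L), x * y = y * x := fun x hx y hy =>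
      congrArg Subtype.val (h1.1.1 (⟨x, hx⟩ : (P : Subgroup L)) ⟨y, hy⟩)
    exact ⟨mem_of_abelian h1171 hna P hPc hA hA2 hA0 ht ht2, fun s hs => hPc s hs t ht⟩
  · obtain ⟨a, ha, ha1⟩ : ∃ a ∈ A, a ≠ 1 := by
      by_contra h0
      push Not at h0
      exact hA0 ((Subgroup.eq_bot_iff_forall _).2 h0)
    refine ⟨mem_of_stronglyEmbedded hH hA ha (hA2 a ha) ha1 ht ht2, ?_⟩
    by_cases ht1 : t = 1
    · intro s _
      rw [ht1, mul_one, one_mul]
    obtain ⟨P₀, hP₀H, hHP₀⟩ := hbend L hna H hH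
    obtain ⟨g, hg⟩ := MulAction.exists_smul_eq L P₀ P
    have hmem : ∀ {x : L}, x ∈ (P : Subgroup L) → g⁻¹ * x * g ∈ (P₀ : Subgroup L) := by
      intro x hx
      rw [← hg] at hx
      have hx' : x ∈ (P₀ : Subgroup L).map (MulAut.conj g).toMonoidHom := hx
      rwa [mem_map_conj] at hx'
    set t0 := g⁻¹ * t * g with ht0
    have ht0P := hmem ht
    have ht02 : t0 * t0 = 1 := by
      calc t0 * t0 = g⁻¹ * (t * t) * g := by rw [ht0]; group
        _ = 1 := by rw [ht2]; group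
    have ht01 : t0 ≠ 1 := by
      intro h1
      apply ht1
      have : t = g * t0 * g⁻¹ := by rw [ht0]; group
      rw [this, h1]; group
    have ho0 := orderOf_eq_two_of_sq ht02 ht01
    -- an involution in the centre of `P₀`
    have hnt : Nontrivial (P₀ : Subgroup L) := ⟨⟨⟨t0, ht0P⟩, 1, fun h => ht01 (congrArg Subtype.val h)⟩⟩
    have hZ : Nontrivial (center (P₀ : Subgroup L)) := P₀.isPGroup'.center_nontrivial
    obtain ⟨k, hk⟩ := IsPGroup.iff_card.1 (P₀.isPGroup'.to_subgroup (center (P₀ : Subgroup L)))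
    have hk0 : k ≠ 0 := by
      rintro rfl
      rw [pow_zero] at hk
      exact absurd (Subgroup.card_eq_one.1 hk) ((Subgroup.nontrivial_iff_ne_bot _).1 hZ)
    obtain ⟨z, hz⟩ := exists_prime_orderOf_dvd_card' (G := center (P₀ : Subgroup L)) 2
      (by rw [hk]; exact dvd_pow_self 2 hk0)
    have hzo : orderOf ((z : (P₀ : Subgroup L)) : L) = 2 := by
      rw [Subgroup.orderOf_coe, Subgroup.orderOf_coe, hz]
    obtain ⟨c, hc⟩ := isConj_iff.1 (isConj_of_involutions hH ((z : (P₀ : Subgroup L)) : L) t0 hzo ho0)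
    have hcH : c ∈ H := mem_of_conj_mem hH (hP₀H (z : (P₀ : Subgroup L)).2) hzo
      (by rw [hc]; exact hP₀H ht0P)
    have hcN := hHP₀ hcH
    have key : ∀ s ∈ (P₀ : Subgroup L), s * t0 = t0 * s := by
      intro s hs
      have h1 := conj_mem_of_mem_normalizer (inv_mem hcN) hs
      rw [inv_inv] at h1
      have h2 := congrArg Subtype.val (mem_center_iff.1 z.2 ⟨_, h1⟩)
      have h2' : c⁻¹ * s * c * ((z : (P₀ : Subgroup L)) : L) = ((z : (P₀ : Subgroup L)) : L) * (c⁻¹ * s * c) := h2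
      rw [← hc]
      calc s * (c * (z : (P₀ : Subgroup L)) * c⁻¹) = c * (c⁻¹ * s * c * ((z : (P₀ : Subgroup L)) : L)) * c⁻¹ := by
            group
        _ = c * (z : (P₀ : Subgroup L)) * c⁻¹ * s := by rw [h2']; group
    intro s hs
    have h1 := key _ (hmem hs)
    calc s * t = g * (g⁻¹ * s * g * t0) * g⁻¹ := by rw [ht0]; group
      _ = g * (t0 * (g⁻¹ * s * g)) * g⁻¹ := by rw [h1]
      _ = t * s := by rw [ht0]; group

end Cfsg.Agent.HexGlob.MinPlus
end

-- part: HexGlob/CompTools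
section
prune_inst 0x20000000010000000000000000001c0292000002000b0000004000000480040100040620b040021001008064003c8060000000090008000020008a00411801a0040022c28048b00001000040c800000000000000000000000000000000000000000000000
set_option linter.all false
open scoped Cfsg.Agent.FastGrp

/-!
# Components of a group with trivial odd core and strongly closed subgroups (pieces A2 - A5)

`X` finite, `O(X) = 1`, `P` a Sylow 2-subgroup of `X`, `K` a component of `X`.

* `QS`: quasisimple groups with trivial odd core; `QS.min_plus` (A1 + A5).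
* `Ctx.min_plus`: the same for a component.
* `Ctx.false_of_le_derived` (A2), `Ctx.le_of_moved`, `Ctx.false_of_moved` (A3), `Ctx.comm_of_inf_le` (A4).
-/

set_option autoImplicit false

namespace Cfsg.Agent.HexGlob.CompTools

open Subgroup Cfsg.Agent.Lib.GoldschmidtFusion Cfsg.Agent.TypeL3 Cfsg.Agent.HexGlob.MinPlus
open Cfsg.Agent.SignalizersComponents.CompBasic Cfsg.Agent.SignalizersComponents.Components
open scoped commutatorElement

universe u

/-! ### quasisimple groups -/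

/-- quasisimple with trivial odd core -/
structure QS (Y : Type*) [Group Y] : Prop where
  qs : Cfsg.IsQuasisimple Y
  core : Cfsg.pPrimeCore 2 Y = ⊥

namespace QS

variable {Y : Type u} [Group Y]

theorem center_pow [Finite Y] (h : QS Y) {c : Y} (hc : c ∈ center Y) : ∃ k : ℕ, c ^ 2 ^ k = 1 := by
  obtain ⟨k, m, hm, hkm⟩ := Nat.exists_eq_pow_mul_and_not_dvd (orderOf_pos c).ne' 2 (by norm_num)
  refine ⟨k, ?_⟩
  have hd : orderOf (c ^ 2 ^ k) = m := by
    rw [orderOf_pow_of_dvd (pow_ne_zero _ two_ne_zero) (by rw [hkm]; exact Dvd.intro _ rfl), hkm,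
      Nat.mul_div_cancel_left _ (pow_pos two_pos _)]
  have hdc : c ^ 2 ^ k ∈ center Y := pow_mem hc _
  have hn : (zpowers (c ^ 2 ^ k)).Normal := by
    refine ⟨fun y hy g => ?_⟩
    have h1 : y ∈ center Y := (zpowers_le.2 hdc) hy
    rw [mem_center_iff.1 h1 g, mul_inv_cancel_right]
    exact hy
  have h1 : zpowers (c ^ 2 ^ k) ≤ Cfsg.pPrimeCore 2 Y := by
    apply Cfsg.Agent.Lib.Cores.le_pPrimeCore hn
    rw [Nat.card_zpowers, hd]
    exact Nat.coprime_comm.1 ((Nat.Prime.coprime_iff_not_dvd Nat.prime_two).2 hm)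
  rw [h.core] at h1
  exact mem_bot.1 (h1 (mem_zpowers _))

theorem center_le [Finite Y] (h : QS Y) (P : Sylow 2 Y) : center Y ≤ (P : Subgroup Y) := by
  have : IsPGroup 2 (center Y) := by
    rintro ⟨c, hc⟩
    obtain ⟨k, hk⟩ := h.center_pow hc
    exact ⟨k, Subtype.ext hk⟩
  exact this.le_sylow_of_normal P

theorem not_comm_bar (h : QS Y) : ∃ a b : Y ⧸ center Y, a * b ≠ b * a := by
  by_contra hcon
  push Not at hcon
  have hs : IsSimpleGroup (Y ⧸ center Y) := h.qs.2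
  have hperf : _root_.commutator Y = ⊤ := h.qs.1.commutator_eq_top
  have h1 : _root_.commutator (Y ⧸ center Y) = ⊥ := by
    rw [_root_.commutator_eq_bot_iff_center_eq_top, eq_top_iff]
    intro x _
    exact mem_center_iff.2 fun y => hcon y x
  have h2 : (_root_.commutator Y).map (QuotientGroup.mk' (center Y)) = _root_.commutator (Y ⧸ center Y) := by
    rw [commutator_def, commutator_def, Subgroup.map_commutator,
      Subgroup.map_top_of_surjective _ (QuotientGroup.mk'_surjective (center Y))]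
  rw [hperf, Subgroup.map_top_of_surjective _ (QuotientGroup.mk'_surjective (center Y)), h1] at h2
  obtain ⟨x, hx⟩ := exists_ne (1 : Y ⧸ center Y)
  apply hx
  rw [← mem_bot, ← h2]
  exact mem_top x

/-- A5: images of strongly closed subgroups -/
theorem closed_mk [Finite Y] (h : QS Y) (P : Sylow 2 Y) {Q : Subgroup Y}
    (hQ : Cfsg.IsStronglyClosed Q (P : Subgroup Y)) :
    Cfsg.IsStronglyClosed (Q.map (QuotientGroup.mk' (center Y)))
      (P.mapSurjective (QuotientGroup.mk'_surjective (center Y)) : Subgroup (Y ⧸ center Y)) := by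
  rw [Sylow.coe_mapSurjective]
  refine ⟨Subgroup.map_mono hQ.1, ?_⟩
  rintro _ ⟨x, hx, rfl⟩ g hg
  obtain ⟨g, rfl⟩ := QuotientGroup.mk'_surjective (center Y) g
  rw [← map_inv, ← map_mul, ← map_mul] at hg ⊢
  obtain ⟨y, hy, e⟩ := hg
  have hc : y⁻¹ * (g * x * g⁻¹) ∈ center Y := QuotientGroup.eq.1 e
  have h1 : g * x * g⁻¹ ∈ (P : Subgroup Y) := by
    have := mul_mem hy (h.center_le P hc)
    rwa [mul_inv_cancel_left] at this
  exact ⟨g * x * g⁻¹, hQ.2 x hx g h1, rfl⟩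

/-- A1 for `Y / Z(Y)` -/
theorem min_plus [Finite Y] (h1169 : H1169.{u}) (h1171 : H1171.{u}) (hbend : HBend.{u}) (h : QS Y)
    (P : Sylow 2 Y) {Q : Subgroup Y} (hQ : Cfsg.IsStronglyClosed Q (P : Subgroup Y))
    (hQc : ∀ x ∈ Q, ∀ y ∈ Q, x * y * x⁻¹ * y⁻¹ ∈ center Y) (hQ2 : ∀ x ∈ Q, x * x ∈ center Y)
    (hQ0 : ¬ Q ≤ center Y) {t : Y} (ht : t ∈ (P : Subgroup Y)) (ht2 : t * t ∈ center Y) :
    (∃ q ∈ Q, ∃ c ∈ center Y, t = q * c) ∧ ∀ s ∈ (P : Subgroup Y), s * t * s⁻¹ * t⁻¹ ∈ center Y := by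
  have hs : IsSimpleGroup (Y ⧸ center Y) := h.qs.2
  have hmk : ∀ {x y : Y}, x * y * x⁻¹ * y⁻¹ ∈ center Y →
      QuotientGroup.mk' (center Y) x * QuotientGroup.mk' (center Y) y =
        QuotientGroup.mk' (center Y) y * QuotientGroup.mk' (center Y) x := by
    intro x y hxy
    have h1 : QuotientGroup.mk' (center Y) (x * y * x⁻¹ * y⁻¹) = 1 := (QuotientGroup.eq_one_iff _).2 hxy
    rw [map_mul, map_mul, map_mul, map_inv, map_inv, mul_inv_eq_one, mul_inv_eq_iff_eq_mul] at h1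
    exact h1
  obtain ⟨h1, h2⟩ := mem_and_comm h1169 h1171 hbend h.not_comm_bar
    (P.mapSurjective (QuotientGroup.mk'_surjective (center Y))) (h.closed_mk P hQ)
    (by
      intro h0
      rw [Subgroup.map_eq_bot_iff, QuotientGroup.ker_mk'] at h0
      exact hQ0 h0)
    (by
      rintro _ ⟨x, hx, rfl⟩ _ ⟨y, hy, rfl⟩
      exact hmk (hQc x hx y hy))
    (by
      rintro _ ⟨x, hx, rfl⟩
      rw [← map_mul]
      exact (QuotientGroup.eq_one_iff _).2 (hQ2 x hx))
    (t := QuotientGroup.mk' (center Y) t)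
    (by rw [Sylow.coe_mapSurjective]; exact ⟨t, ht, rfl⟩)
    (by
      rw [← map_mul]
      exact (QuotientGroup.eq_one_iff _).2 ht2)
  constructor
  · obtain ⟨q, hq, e⟩ := h1
    exact ⟨q, hq, q⁻¹ * t, QuotientGroup.eq.1 e, by group⟩
  · intro s hs
    have h3 := h2 (QuotientGroup.mk' (center Y) s) (by rw [Sylow.coe_mapSurjective]; exact ⟨s, hs, rfl⟩)
    rw [← QuotientGroup.eq_one_iff]
    show QuotientGroup.mk' (center Y) (s * t * s⁻¹ * t⁻¹) = 1
    rw [map_mul, map_mul, map_mul, map_inv, map_inv, mul_inv_eq_one, mul_inv_eq_iff_eq_mul]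
    exact h3

/-- focal subgroup theorem -/
theorem focal [Finite Y] (h : QS Y) (P : Sylow 2 Y) {M : Subgroup Y}
    (hM : ∀ k ∈ (P : Subgroup Y), ∀ g : Y, g * k * g⁻¹ ∈ (P : Subgroup Y) → k⁻¹ * (g * k * g⁻¹) ∈ M) :
    (P : Subgroup Y) ≤ M := by
  have hperf : _root_.commutator Y = ⊤ := h.qs.1.commutator_eq_top
  have hf := Subgroup.commutator_inf_eq_focalSubgroup P
  rw [hperf, top_inf_eq, focalSubgroup_def] at hf
  rw [hf, closure_le]
  rintro g ⟨hg, y, hy, w, rfl⟩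
  have hy' : w * y⁻¹ * w⁻¹ ∈ (P : Subgroup Y) := by
    have := mul_mem (inv_mem hy) hg
    rw [commutatorElement_def] at this
    convert this using 1
    group
  have := hM y⁻¹ (inv_mem hy) w hy'
  show ⁅y, w⁆ ∈ M
  rw [commutatorElement_def]
  convert this using 1
  group

theorem two_dvd [Finite Y] (h : QS Y) : 2 ∣ Nat.card Y := by
  by_contra h1
  have h2 : (Nat.card Y).Coprime 2 := Nat.coprime_comm.1 ((Nat.Prime.coprime_iff_not_dvd Nat.prime_two).2 h1)
  have h3 := (Cfsg.Agent.Lib.Cores.pPrimeCore_eq_top_iff (G := Y) (p := 2)).2 h2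
  rw [h.core] at h3
  have h5 := quasisimple_nontrivial h.qs
  exact bot_ne_top h3

theorem not_le_center [Finite Y] (h : QS Y) (P : Sylow 2 Y) : ¬ (P : Subgroup Y) ≤ center Y :=
  sylow_not_le_center_of_perfect h.qs.1 2 h.two_dvd P

end QS

/-! ### components -/

variable {X : Type u} [Group X]

/-- `K` a component of `X`, `O(X) = 1` -/
structure Ctx (K : Subgroup X) : Prop where
  core : Cfsg.oddCore X = ⊥
  comp : Cfsg.IsComponent K

theorem mem_center_coe {K : Subgroup X} {x : K} : x ∈ center K ↔ (x : X) ∈ centralizer (K : Set X) := by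
  rw [mem_center_iff, mem_centralizer_iff]
  constructor
  · intro h y hy
    exact congrArg Subtype.val (h ⟨y, hy⟩)
  · intro h y
    exact Subtype.ext (h y y.2)

namespace Ctx

variable {K : Subgroup X}

theorem conj (h : Ctx K) (g : X) : Ctx (K.map (MulAut.conj g).toMonoidHom) :=
  ⟨h.core, isComponent_conj g h.comp⟩

theorem commute_of_ne (h : Ctx K) {L : Subgroup X} (hL : Cfsg.IsComponent L) (hne : K ≠ L) {x y : X}
    (hx : x ∈ K) (hy : y ∈ L) : x * y = y * x :=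
  ((mem_centralizer_iff.1 (component_le_centralizer_of_ne h.comp hL hne hx)) y hy).symm

variable [Finite X]

theorem qs (h : Ctx K) : QS K := by
  refine ⟨h.comp.2, ?_⟩
  have h1 := map_subtype_pPrimeCore_of_subnormal 2 h.comp.1
  have h2 : Cfsg.pPrimeCore 2 X = ⊥ := h.core
  rw [h2, inf_bot_eq] at h1
  exact (Subgroup.map_eq_bot_iff_of_injective _ K.subtype_injective).1 h1

theorem exists_sylow (h : Ctx K) (P : Sylow 2 X) : ∃ R : Sylow 2 K, (R : Subgroup K) = (P : Subgroup X).subgroupOf K :=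
  Cfsg.Agent.S0542.result 2 K h.comp.1 P

/-- focal subgroup theorem in `K` -/
theorem focal (h : Ctx K) (P : Sylow 2 X) {M : Subgroup X}
    (hM : ∀ k ∈ (P : Subgroup X) ⊓ K, ∀ g ∈ K, g * k * g⁻¹ ∈ (P : Subgroup X) → k⁻¹ * (g * k * g⁻¹) ∈ M) :
    (P : Subgroup X) ⊓ K ≤ M := by
  obtain ⟨R, hR⟩ := h.exists_sylow P
  have hle : (R : Subgroup K) ≤ M.subgroupOf K := by
    apply h.qs.focal R
    intro k hk g hg
    rw [hR, mem_subgroupOf] at hk hg
    rw [mem_subgroupOf]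
    exact hM k (mem_inf.2 ⟨hk, k.2⟩) g g.2 hg
  intro x hx
  obtain ⟨hxP, hxK⟩ := mem_inf.1 hx
  have h1 : (⟨x, hxK⟩ : K) ∈ (R : Subgroup K) := by rw [hR, mem_subgroupOf]; exact hxP
  have h2 := hle h1
  rw [mem_subgroupOf] at h2
  exact h2

theorem not_le_centralizer (h : Ctx K) (P : Sylow 2 X) : ¬ (P : Subgroup X) ⊓ K ≤ centralizer (K : Set X) := by
  intro hle
  obtain ⟨R, hR⟩ := h.exists_sylow P
  apply h.qs.not_le_center R
  intro x hx
  rw [hR, mem_subgroupOf] at hx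
  exact mem_center_coe.2 (hle (mem_inf.2 ⟨hx, x.2⟩))

/-- `Z(K) ≤ P` -/
theorem center_le (h : Ctx K) (P : Sylow 2 X) : K ⊓ centralizer (K : Set X) ≤ (P : Subgroup X) := by
  intro x hx
  obtain ⟨hxK, hxC⟩ := mem_inf.1 hx
  obtain ⟨R, hR⟩ := h.exists_sylow P
  have h1 := h.qs.center_le R (mem_center_coe.2 hxC : (⟨x, hxK⟩ : K) ∈ center K)
  rw [hR, mem_subgroupOf] at h1
  exact h1

/-- A1 + A5 for a component; `A` has to be strongly closed only with respect to `K` -/
theorem min_plus (h1169 : H1169.{u}) (h1171 : H1171.{u}) (hbend : HBend.{u}) (h : Ctx K) (P : Sylow 2 X)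
    {A : Subgroup X} (hAP : A ⊓ K ≤ (P : Subgroup X))
    (hA : ∀ x ∈ A ⊓ K, ∀ g ∈ K, g * x * g⁻¹ ∈ (P : Subgroup X) → g * x * g⁻¹ ∈ A)
    (hAc : ∀ x ∈ A ⊓ K, ∀ y ∈ A ⊓ K, x * y * x⁻¹ * y⁻¹ ∈ centralizer (K : Set X))
    (hA2 : ∀ x ∈ A ⊓ K, x * x ∈ centralizer (K : Set X)) (hA0 : ¬ A ⊓ K ≤ centralizer (K : Set X)) {t : X}
    (ht : t ∈ (P : Subgroup X) ⊓ K) (ht2 : t * t ∈ centralizer (K : Set X)) :
    (∃ q ∈ A ⊓ K, ∃ c ∈ K ⊓ centralizer (K : Set X), t = q * c) ∧
      ∀ s ∈ (P : Subgroup X) ⊓ K, s * t * s⁻¹ * t⁻¹ ∈ centralizer (K : Set X) := by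
  obtain ⟨R, hR⟩ := h.exists_sylow P
  obtain ⟨htP, htK⟩ := mem_inf.1 ht
  obtain ⟨h1, h2⟩ := h.qs.min_plus h1169 h1171 hbend R (Q := A.subgroupOf K)
    ⟨fun x hx => by
      rw [hR, mem_subgroupOf]
      rw [mem_subgroupOf] at hx
      exact hAP (mem_inf.2 ⟨hx, x.2⟩), fun x hx g hg => by
      rw [hR, mem_subgroupOf] at hg
      rw [mem_subgroupOf] at hx ⊢
      exact hA x (mem_inf.2 ⟨hx, x.2⟩) g g.2 hg⟩
    (fun x hx y hy => by
      rw [mem_subgroupOf] at hx hy
      exact mem_center_coe.2 (hAc x (mem_inf.2 ⟨hx, x.2⟩) y (mem_inf.2 ⟨hy, y.2⟩)))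
    (fun x hx => by
      rw [mem_subgroupOf] at hx
      exact mem_center_coe.2 (hA2 x (mem_inf.2 ⟨hx, x.2⟩)))
    (fun h0 => hA0 fun x hx => by
      obtain ⟨hxA, hxK⟩ := mem_inf.1 hx
      exact mem_center_coe.1 (h0 (show (⟨x, hxK⟩ : K) ∈ A.subgroupOf K from hxA)))
    (t := ⟨t, htK⟩) (by rw [hR, mem_subgroupOf]; exact htP) (mem_center_coe.2 ht2)
  constructor
  · obtain ⟨q, hq, c, hc, e⟩ := h1
    exact ⟨q, mem_inf.2 ⟨hq, q.2⟩, c, mem_inf.2 ⟨c.2, mem_center_coe.1 hc⟩, congrArg Subtype.val e⟩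
  · intro s hs
    obtain ⟨hsP, hsK⟩ := mem_inf.1 hs
    exact mem_center_coe.1 (h2 ⟨s, hsK⟩ (by rw [hR, mem_subgroupOf]; exact hsP))

/-! ### A3: elements moving a component -/

/-- A3: `P ∩ K ≤ A` if `A` is strongly closed in `P` and contains an element moving `K` -/
theorem le_of_moved (h : Ctx K) (P : Sylow 2 X) {A : Subgroup X} (hA : Cfsg.IsStronglyClosed A (P : Subgroup X))
    {a : X} (ha : a ∈ A) (hne : K.map (MulAut.conj a).toMonoidHom ≠ K) : (P : Subgroup X) ⊓ K ≤ A := by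
  have haP := hA.1 ha
  have hL := isComponent_conj a h.comp
  apply h.focal P
  intro k hk g hg hgk
  obtain ⟨hkP, hkK⟩ := mem_inf.1 hk
  set l := a * k * a⁻¹ with hl
  have hlL : l ∈ K.map (MulAut.conj a).toMonoidHom := conj_mem_map_conj hkK a
  have hlP : l ∈ (P : Subgroup X) := mul_mem (mul_mem haP hkP) (inv_mem haP)
  -- `k⁻¹ l ∈ A`
  have h1 : k⁻¹ * l ∈ A := by
    have h2 : k⁻¹ * a * k⁻¹⁻¹ ∈ A := hA.2 a ha k⁻¹
      (mul_mem (mul_mem (inv_mem hkP) haP) (inv_mem (inv_mem hkP)))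
    have h3 := mul_mem h2 (inv_mem ha)
    convert h3 using 1
    rw [hl]; group
  have hgl : g * l = l * g := h.commute_of_ne hL hne.symm hg hlL
  have e1 : g * (k⁻¹ * l) * g⁻¹ = (g * k * g⁻¹)⁻¹ * l := by
    calc g * (k⁻¹ * l) * g⁻¹ = g * k⁻¹ * g⁻¹ * (g * l) * g⁻¹ := by group
      _ = (g * k * g⁻¹)⁻¹ * l := by rw [hgl]; group
  have h2 : g * (k⁻¹ * l) * g⁻¹ ∈ A := by
    apply hA.2 _ h1
    rw [e1]
    exact mul_mem (inv_mem hgk) hlP
  rw [e1] at h2
  have h3 := inv_mem (mul_mem h2 (inv_mem h1))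
  convert h3 using 1
  group

/-- A3': contradiction if moreover the commutators `[k, a]` centralise the components -/
theorem false_of_moved (h : Ctx K) (P : Sylow 2 X) {A : Subgroup X}
    (hA : Cfsg.IsStronglyClosed A (P : Subgroup X)) {a : X} (ha : a ∈ A)
    (hne : K.map (MulAut.conj a).toMonoidHom ≠ K)
    (hc : ∀ k ∈ A ⊓ K, ∀ l ∈ K.map (MulAut.conj a).toMonoidHom, k⁻¹ * (a * k * a⁻¹) * l = l * (k⁻¹ * (a * k * a⁻¹))) :
    False := by
  have hL := isComponent_conj a h.comp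
  have hle := h.le_of_moved P hA ha hne
  apply h.not_le_centralizer P
  intro k hk
  obtain ⟨hkP, hkK⟩ := mem_inf.1 hk
  rw [mem_centralizer_iff]
  intro y hy
  have hyL : a * y * a⁻¹ ∈ K.map (MulAut.conj a).toMonoidHom := conj_mem_map_conj hy a
  have h1 := hc k (mem_inf.2 ⟨hle hk, hkK⟩) _ hyL
  have h2 := h.commute_of_ne hL hne.symm hkK hyL
  have h3 : a * k * a⁻¹ * (a * y * a⁻¹) = a * y * a⁻¹ * (a * k * a⁻¹) := by
    calc a * k * a⁻¹ * (a * y * a⁻¹) = k * (k⁻¹ * (a * k * a⁻¹) * (a * y * a⁻¹)) := by group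
      _ = k * (a * y * a⁻¹) * (k⁻¹ * (a * k * a⁻¹)) := by rw [h1]; group
      _ = a * y * a⁻¹ * (a * k * a⁻¹) := by rw [h2]; group
  calc y * k = a⁻¹ * (a * y * a⁻¹ * (a * k * a⁻¹)) * a := by group
    _ = a⁻¹ * (a * k * a⁻¹ * (a * y * a⁻¹)) * a := by rw [h3]
    _ = k * y := by group

/-- A3' for abelian `A` -/
theorem normalises_of_comm (h : Ctx K) (P : Sylow 2 X) {A : Subgroup X}
    (hA : Cfsg.IsStronglyClosed A (P : Subgroup X)) (hAc : ∀ x ∈ A, ∀ y ∈ A, x * y = y * x) :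
    A ≤ normalizer (K : Set X) := by
  intro a ha
  rw [mem_normalizer_iff_map_conj]
  by_contra hne
  refine h.false_of_moved P hA ha hne ?_
  intro k hk l _
  have : k⁻¹ * (a * k * a⁻¹) = 1 := by
    rw [hAc a ha k (mem_inf.1 hk).1]; group
  rw [this, one_mul, mul_one]

/-! ### A2 -/

/-- A2: `P` normalises `K`, `P ∩ K ≤ Z(P) ∩ P'` is impossible -/
theorem false_of_le_derived (h : Ctx K) (P : Sylow 2 X) (hPK : (P : Subgroup X) ≤ normalizer (K : Set X))
    (hZ : ∀ x ∈ (P : Subgroup X) ⊓ K, ∀ s ∈ (P : Subgroup X), x * s = s * x)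
    (hD : (P : Subgroup X) ⊓ K ≤ ⁅(P : Subgroup X), (P : Subgroup X)⁆) : False := by
  set D := (P : Subgroup X) ⊓ K with hDdef
  obtain ⟨R, hR⟩ := h.exists_sylow P
  have hRD : (R : Subgroup K).map K.subtype = D := by rw [hR, subgroupOf_map_subtype]
  have hRm : ∀ x : K, x ∈ (R : Subgroup K) → (x : X) ∈ (P : Subgroup X) := by
    intro x hx
    rw [hR, mem_subgroupOf] at hx
    exact hx
  have hRc : IsMulCommutative (R : Subgroup K) := ⟨⟨fun x y =>
    Subtype.ext (Subtype.ext (hZ _ (mem_inf.2 ⟨hRm _ x.2, (x : K).2⟩) _ (hRm _ y.2)))⟩⟩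
  -- elements of `N_K(D)` centralise `D`
  have key : ∀ n ∈ K, n ∈ normalizer (D : Set X) → ∀ x ∈ D, n * x = x * n := by
    intro n hnK hnD
    set C := centralizer (D : Set X) ⊓ K with hC
    have hPC : (P : Subgroup X) ≤ normalizer (C : Set X) := by
      intro s hs
      have hsD : D.map (MulAut.conj s).toMonoidHom = D := by
        rw [hDdef, Subgroup.map_inf _ _ _ (MulAut.conj s).injective,
          mem_normalizer_iff_map_conj.1 (le_normalizer hs), mem_normalizer_iff_map_conj.1 (hPK hs)]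
      rw [mem_normalizer_iff_map_conj]
      apply Subgroup.eq_of_le_of_card_ge _ (by rw [card_map_conj])
      rintro _ ⟨c, hc, rfl⟩
      obtain ⟨hc1, hc2⟩ := mem_inf.1 hc
      refine mem_inf.2 ⟨?_, conj_mem_of_mem_normalizer (hPK hs) hc2⟩
      rw [← hsD]
      rw [mem_centralizer_map_conj]
      show s⁻¹ * (s * c * s⁻¹) * s ∈ _
      have : s⁻¹ * (s * c * s⁻¹) * s = c := by group
      rw [this]; exact hc1
    have hmem : ∀ x, x ∈ (P : Subgroup X) ⊔ C ↔ ∃ a ∈ (P : Subgroup X), ∃ b ∈ C, x = a * b :=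
      fun x => mem_sup_of_le_normalizer hPC
    obtain ⟨r, hr, hrn⟩ := exists_conj_normalizer P (R := (P : Subgroup X) ⊔ C) le_sup_left (g := n) (by
      intro r hr
      obtain ⟨s, hs, c, hc, rfl⟩ := (hmem r).1 hr
      obtain ⟨hc1, hc2⟩ := mem_inf.1 hc
      refine (hmem _).2 ⟨s, hs, s⁻¹ * (n * s * n⁻¹) * (n * c * n⁻¹), mem_inf.2 ⟨?_, ?_⟩, by group⟩
      · have hcn : ∀ y ∈ centralizer (D : Set X), n * y * n⁻¹ ∈ centralizer (D : Set X) := by
          intro y hy
          rw [← mem_normalizer_iff_map_conj.1 hnD, mem_centralizer_map_conj]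
          simpa [mul_assoc] using hy
        have hPD : ∀ s ∈ (P : Subgroup X), s ∈ centralizer (D : Set X) := by
          intro s hs
          rw [mem_centralizer_iff]
          intro x hx
          exact hZ x hx s hs
        exact mul_mem (mul_mem (inv_mem (hPD s hs)) (hcn s (hPD s hs))) (hcn c hc1)
      · refine mul_mem ?_ (mul_mem (mul_mem hnK hc2) (inv_mem hnK))
        have h1 := conj_mem_of_mem_normalizer (inv_mem (hPK hs)) hnK
        have h2 := mul_mem h1 (inv_mem hnK)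
        convert h2 using 1
        group)
    obtain ⟨s, hs, c, hc, rfl⟩ := (hmem r).1 hr
    obtain ⟨hc1, hc2⟩ := mem_inf.1 hc
    have hm : c * n ∈ normalizer ((P : Subgroup X) : Set X) := by
      have := mul_mem (inv_mem (le_normalizer hs)) hrn
      simpa [mul_assoc] using this
    set m := c * n with hmdef
    have hmK : m ∈ K := mul_mem hc2 hnK
    -- `m s m⁻¹ s⁻¹ ∈ D` for `s ∈ P`
    have hf : ∀ s ∈ (P : Subgroup X), m * s * m⁻¹ * s⁻¹ ∈ D := by
      intro s hs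
      refine mem_inf.2 ⟨mul_mem (conj_mem_of_mem_normalizer hm hs) (inv_mem hs), ?_⟩
      have := mul_mem hmK (conj_mem_of_mem_normalizer (hPK hs) (inv_mem hmK))
      convert this using 1
      group
    have hder : ⁅(P : Subgroup X), (P : Subgroup X)⁆ ≤ centralizer {m} := by
      rw [Subgroup.commutator_le]
      intro s hs t ht
      rw [mem_centralizer_singleton_iff, commutatorElement_def]
      have hfs := hf s hs
      have hft := hf t ht
      set u := m * s * m⁻¹ * s⁻¹ with hu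
      set v := m * t * m⁻¹ * t⁻¹ with hv
      have es : m * s * m⁻¹ = u * s := by rw [hu]; group
      have et : m * t * m⁻¹ = v * t := by rw [hv]; group
      have hu1 := fun {w : X} (hw : w ∈ (P : Subgroup X)) => hZ u hfs w hw
      have hv1 := fun {w : X} (hw : w ∈ (P : Subgroup X)) => hZ v hft w hw
      have hvS := (mem_inf.1 hft).1
      have huS := (mem_inf.1 hfs).1
      have e1 : m * (s * t * s⁻¹ * t⁻¹) * m⁻¹ = s * t * s⁻¹ * t⁻¹ := by
        calc m * (s * t * s⁻¹ * t⁻¹) * m⁻¹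
            = (m * s * m⁻¹) * (m * t * m⁻¹) * (m * s * m⁻¹)⁻¹ * (m * t * m⁻¹)⁻¹ := by group
          _ = u * (s * v) * t * s⁻¹ * u⁻¹ * t⁻¹ * v⁻¹ := by rw [es, et]; group
          _ = u * (v * (s * t * s⁻¹)) * u⁻¹ * t⁻¹ * v⁻¹ := by rw [← hv1 hs]; group
          _ = (v * (s * t * s⁻¹)) * u * u⁻¹ * t⁻¹ * v⁻¹ := by
              rw [hu1 (mul_mem hvS (mul_mem (mul_mem hs ht) (inv_mem hs)))]
          _ = v * (s * t * s⁻¹ * t⁻¹) * v⁻¹ := by group
          _ = s * t * s⁻¹ * t⁻¹ := by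
              rw [hv1 (mul_mem (mul_mem (mul_mem hs ht) (inv_mem hs)) (inv_mem ht)), mul_inv_cancel_right]
      calc s * t * s⁻¹ * t⁻¹ * m = (m * (s * t * s⁻¹ * t⁻¹) * m⁻¹) * m := by rw [e1]
        _ = m * (s * t * s⁻¹ * t⁻¹) := by group
    intro x hx
    have hmx : x * m = m * x := mem_centralizer_singleton_iff.1 (hder (hD hx))
    have hcx : x * c = c * x := mem_centralizer_iff.1 hc1 x hx
    have e : n = c⁻¹ * m := by rw [hmdef]; group
    rw [e]
    calc c⁻¹ * m * x = c⁻¹ * (x * m) := by rw [hmx]; group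
      _ = c⁻¹ * (x * c) * c⁻¹ * m := by group
      _ = c⁻¹ * (c * x) * c⁻¹ * m := by rw [hcx]
      _ = x * (c⁻¹ * m) := by group
  apply h.not_le_centralizer P
  refine le_trans (h.focal P (M := ⊥) ?_) bot_le
  intro k hk g hg hgk
  obtain ⟨hkP, hkK⟩ := mem_inf.1 hk
  have h1 : (⟨k, hkK⟩ : K) ∈ (R : Subgroup K) := by rw [hR, mem_subgroupOf]; exact hkP
  have h2 : (⟨g, hg⟩⁻¹ : K)⁻¹ * ⟨k, hkK⟩ * (⟨g, hg⟩⁻¹ : K) ∈ (R : Subgroup K) := by
    rw [hR, mem_subgroupOf, inv_inv]; exact hgk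
  obtain ⟨n, hn, e⟩ := R.conj_eq_normalizer_conj_of_mem _ _ h1 h2
  rw [inv_inv] at e
  have e' : g * k * g⁻¹ = (n : X)⁻¹ * k * n := congrArg Subtype.val e
  have hnD : (n : X) ∈ normalizer (D : Set X) := by
    rw [← hRD]
    exact coe_mem_normalizer_map.2 hn
  have h3 := key n n.2 hnD k hk
  rw [mem_bot, e']
  calc k⁻¹ * ((n : X)⁻¹ * k * n) = k⁻¹ * (n : X)⁻¹ * (k * n) := by group
    _ = 1 := by rw [← h3]; group

/-! ### A4 -/

omit [Finite X] in
theorem le_or_inf_le {K M : Subgroup X} (hK : Cfsg.IsQuasisimple K) (hM : K ≤ normalizer (M : Set X)) :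
    K ≤ M ∨ M ⊓ K ≤ centralizer (K : Set X) := by
  have h1 : (M.subgroupOf K).Normal := normal_subgroupOf_of_le_normalizer hM
  rcases quasisimple_normal hK _ h1 with h | h
  · exact Or.inl (subgroupOf_eq_top.mp h)
  · right
    intro x hx
    obtain ⟨hxM, hxK⟩ := mem_inf.1 hx
    exact mem_center_coe.1 (h (show (⟨x, hxK⟩ : K) ∈ M.subgroupOf K from hxM))

/-- A4 for a normal quasisimple subgroup whose centre is a 2-group -/
theorem comm_of_normal (h1171 : H1171.{u}) {K : Subgroup X} [hKn : K.Normal] (hK : Cfsg.IsQuasisimple K)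
    (hZ : IsPGroup 2 (K ⊓ centralizer (K : Set X) : Subgroup X)) (T : Sylow 2 X)
    (hTK : ¬ (T : Subgroup X) ⊓ K ≤ centralizer (K : Set X)) {A : Subgroup X}
    (hA : Cfsg.IsStronglyClosed A (T : Subgroup X)) (hAK : A ⊓ K ≤ centralizer (K : Set X)) :
    ∀ a ∈ A, ∀ k ∈ K, a * k = k * a := by
  set C : Subgroup X := K ⊓ centralizer (K : Set X) with hC
  have hCn : C.Normal := inferInstance
  have hCT : C ≤ (T : Subgroup X) := hZ.le_sylow_of_normal T
  set f := QuotientGroup.mk' C with hf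
  have hfs : Function.Surjective f := QuotientGroup.mk'_surjective C
  have hfe : ∀ {x y : X}, f x = f y → x⁻¹ * y ∈ C := fun h => QuotientGroup.eq.1 h
  have hf1 : ∀ {x : X}, f x = 1 ↔ x ∈ C := fun {x} => QuotientGroup.eq_one_iff x
  have hTbar : ∀ x, f x ∈ (T.mapSurjective hfs : Subgroup (X ⧸ C)) ↔ x ∈ (T : Subgroup X) := by
    intro x
    rw [Sylow.coe_mapSurjective]
    constructor
    · rintro ⟨y, hy, e⟩
      have := mul_mem hy (hCT (hfe e))
      rwa [mul_inv_cancel_left] at this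
    · intro hx
      exact ⟨x, hx, rfl⟩
  have hAc : Cfsg.IsStronglyClosed (A.map f) (T.mapSurjective hfs : Subgroup (X ⧸ C)) := by
    refine ⟨?_, ?_⟩
    · rintro _ ⟨x, hx, rfl⟩
      exact (hTbar x).2 (hA.1 hx)
    · rintro _ ⟨x, hx, rfl⟩ g hg
      obtain ⟨g, rfl⟩ := hfs g
      rw [← map_inv, ← map_mul, ← map_mul] at hg ⊢
      exact ⟨_, hA.2 x hx g ((hTbar _).1 hg), rfl⟩
  have hDc : Cfsg.IsStronglyClosed (((T : Subgroup X) ⊓ K).map f) (T.mapSurjective hfs : Subgroup (X ⧸ C)) := by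
    refine ⟨?_, ?_⟩
    · rintro _ ⟨x, hx, rfl⟩
      exact (hTbar x).2 (mem_inf.1 hx).1
    · rintro _ ⟨x, hx, rfl⟩ g hg
      obtain ⟨g, rfl⟩ := hfs g
      rw [← map_inv, ← map_mul, ← map_mul] at hg ⊢
      exact ⟨_, mem_inf.2 ⟨(hTbar _).1 hg, hKn.conj_mem x (mem_inf.1 hx).2 g⟩, rfl⟩
  have hinf : A.map f ⊓ ((T : Subgroup X) ⊓ K).map f = ⊥ := by
    rw [Subgroup.eq_bot_iff_forall]
    rintro _ ⟨⟨a, ha, rfl⟩, ⟨d, hd, e⟩⟩
    have h1 : d⁻¹ * a ∈ C := hfe e
    have h2 : a ∈ K := by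
      have := mul_mem (mem_inf.1 hd).2 (mem_inf.1 h1).1
      rwa [mul_inv_cancel_left] at this
    exact hf1.2 (mem_inf.2 ⟨h2, hAK (mem_inf.2 ⟨ha, h2⟩)⟩)
  have hcom := h1171 (X ⧸ C) (T.mapSurjective hfs) _ _ hinf hAc hDc
  set O := Cfsg.oddCore (X ⧸ C) with hO
  have hOn : O.Normal := Cfsg.Agent.Lib.Cores.pPrimeCore_normal 2
  have hOodd : (Nat.card O).Coprime 2 := Cfsg.Agent.Lib.Cores.pPrimeCore_coprime 2
  have hKM : K ≤ (Subgroup.normalClosure (((T : Subgroup X) ⊓ K).map f : Set (X ⧸ C))).comap f := by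
    have hn : ((Subgroup.normalClosure (((T : Subgroup X) ⊓ K).map f : Set (X ⧸ C))).comap f).Normal :=
      inferInstance
    rcases le_or_inf_le hK (M := (Subgroup.normalClosure (((T : Subgroup X) ⊓ K).map f : Set (X ⧸ C))).comap f)
      (by rw [Subgroup.normalizer_eq_top_iff.2 hn]; exact le_top) with h1 | h1
    · exact h1
    · exfalso
      apply hTK
      intro x hx
      apply h1
      refine mem_inf.2 ⟨?_, (mem_inf.1 hx).2⟩
      exact Subgroup.subset_normalClosure ⟨x, hx, rfl⟩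
  have hWle : (O.comap f) ⊓ K ≤ centralizer (K : Set X) := by
    have hn : (O.comap f).Normal := inferInstance
    rcases le_or_inf_le hK (M := O.comap f)
      (by rw [Subgroup.normalizer_eq_top_iff.2 hn]; exact le_top) with h1 | h1
    · exfalso
      apply hTK
      intro x hx
      obtain ⟨hxT, hxK⟩ := mem_inf.1 hx
      have h2 : f x ∈ O := h1 hxK
      have h3 : orderOf (f x) ∣ Nat.card O := by
        have := orderOf_dvd_natCard (⟨f x, h2⟩ : O)
        rwa [← Subgroup.orderOf_coe] at this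
      obtain ⟨k, hk⟩ := T.isPGroup' ⟨x, hxT⟩
      have hk' : x ^ 2 ^ k = 1 := congrArg Subtype.val hk
      have h4 : orderOf (f x) ∣ 2 ^ k := orderOf_dvd_of_pow_eq_one (by rw [← map_pow, hk', map_one])
      have h5 : orderOf (f x) ∣ Nat.gcd (Nat.card O) (2 ^ k) := Nat.dvd_gcd h3 h4
      rw [Nat.Coprime.pow_right k hOodd] at h5
      exact (mem_inf.1 (hf1.1 (orderOf_eq_one_iff.1 (Nat.dvd_one.1 h5)))).2
    · exact h1
  have hAK2 : ⁅A, K⁆ ≤ centralizer (K : Set X) := by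
    rw [Subgroup.commutator_le]
    intro a ha k hk
    apply hWle
    refine mem_inf.2 ⟨?_, ?_⟩
    · show f ⁅a, k⁆ ∈ O
      rw [map_commutatorElement]
      exact hcom (commutator_mem_commutator (Subgroup.subset_normalClosure ⟨a, ha, rfl⟩) (hKM hk))
    · rw [commutatorElement_def]
      exact mul_mem (hKn.conj_mem k hk a) (inv_mem hk)
  have h3 : ⁅⁅A, K⁆, K⁆ = ⊥ := commutator_eq_bot_iff_le_centralizer.2 hAK2
  have h4 := commutator_eq_bot_of_commutator_commutator_eq_bot hK.1 h3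
  intro a ha k hk
  exact commutatorElement_eq_one_iff_mul_comm.1 (mem_bot.1 (h4 ▸ commutator_mem_commutator ha hk))

theorem isPGroup_center (h : Ctx K) : IsPGroup 2 (K ⊓ centralizer (K : Set X) : Subgroup X) := by
  rintro ⟨c, hc⟩
  obtain ⟨hcK, hcC⟩ := mem_inf.1 hc
  obtain ⟨k, hk⟩ := h.qs.center_pow (mem_center_coe.2 hcC : (⟨c, hcK⟩ : K) ∈ center K)
  have hk' : c ^ 2 ^ k = 1 := congrArg Subtype.val hk
  exact ⟨k, Subtype.ext hk'⟩

/-- **A4**: `A` strongly closed in `P`, normalising `K`, `A ∩ K ≤ Z(K)` ⟹ `[A, K] = 1` -/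
theorem comm_of_inf_le (h1171 : H1171.{u}) (h : Ctx K) (P : Sylow 2 X) {A : Subgroup X}
    (hA : Cfsg.IsStronglyClosed A (P : Subgroup X)) (hAN : A ≤ normalizer (K : Set X))
    (hAK : A ⊓ K ≤ centralizer (K : Set X)) : ∀ a ∈ A, ∀ k ∈ K, a * k = k * a := by
  obtain ⟨R, hR⟩ := h.exists_sylow P
  set Y : Subgroup X := A ⊔ K with hY
  have hmem : ∀ x, x ∈ Y ↔ ∃ a ∈ A, ∃ b ∈ K, x = a * b := fun x => mem_sup_of_le_normalizer hAN
  have hAY : A ≤ Y := le_sup_left
  have hKY : K ≤ Y := le_sup_right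
  set D := (P : Subgroup X) ⊓ K with hD
  have hT0 : IsPGroup 2 ((A ⊔ D).subgroupOf Y) :=
    (P.isPGroup'.to_le (sup_le hA.1 inf_le_left)).comap_of_injective Y.subtype Y.subtype_injective
  obtain ⟨T, hT⟩ := hT0.exists_le_sylow
  -- `T ∩ K = D`
  have hTK : ∀ x : Y, x ∈ (T : Subgroup Y) → (x : X) ∈ K → (x : X) ∈ (P : Subgroup X) := by
    intro x hx hxK
    have hT' : IsPGroup 2 (((T : Subgroup Y).map Y.subtype).subgroupOf K) :=
      (T.isPGroup'.map Y.subtype).comap_of_injective K.subtype K.subtype_injective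
    have hle : (R : Subgroup K) ≤ ((T : Subgroup Y).map Y.subtype).subgroupOf K := by
      intro y hy
      rw [hR, mem_subgroupOf] at hy
      rw [mem_subgroupOf]
      have hyY : (y : X) ∈ Y := hKY y.2
      refine ⟨⟨y, hyY⟩, hT ?_, rfl⟩
      rw [mem_subgroupOf]
      exact mem_sup_right (mem_inf.2 ⟨hy, y.2⟩)
    have heq := R.is_maximal' hT' hle
    have h1 : (⟨x, hxK⟩ : K) ∈ ((T : Subgroup Y).map Y.subtype).subgroupOf K := by
      rw [mem_subgroupOf]
      exact ⟨x, hx, rfl⟩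
    rw [heq] at h1
    have h2 : (⟨x, hxK⟩ : K) ∈ (P : Subgroup X).subgroupOf K := hR ▸ h1
    rwa [mem_subgroupOf] at h2
  have hTP : ∀ x : Y, x ∈ (T : Subgroup Y) → (x : X) ∈ (P : Subgroup X) := by
    intro x hx
    obtain ⟨a, ha, k, hk, e⟩ := (hmem x).1 x.2
    have haT : (⟨a, hAY ha⟩ : Y) ∈ (T : Subgroup Y) := hT (by rw [mem_subgroupOf]; exact mem_sup_left ha)
    have hkT : (⟨k, hKY hk⟩ : Y) ∈ (T : Subgroup Y) := by
      have h1 : (⟨k, hKY hk⟩ : Y) = (⟨a, hAY ha⟩ : Y)⁻¹ * x := by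
        apply Subtype.ext
        show k = a⁻¹ * (x : X)
        rw [e]; group
      rw [h1]
      exact mul_mem (inv_mem haT) hx
    rw [e]
    exact mul_mem (hA.1 ha) (hTK _ hkT hk)
  have hKn : (K.subgroupOf Y).Normal := normal_subgroupOf_of_le_normalizer (sup_le hAN le_normalizer)
  have hq : Cfsg.IsQuasisimple (K.subgroupOf Y) :=
    isQuasisimple_of_mulEquiv (Subgroup.subgroupOfEquivOfLe hKY).symm h.comp.2
  have hcen : ∀ x : Y, x ∈ centralizer ((K.subgroupOf Y : Subgroup Y) : Set Y) ↔ (x : X) ∈ centralizer (K : Set X) := by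
    intro x
    rw [mem_centralizer_iff, mem_centralizer_iff]
    constructor
    · intro h1 y hy
      exact congrArg Subtype.val (h1 ⟨y, hKY hy⟩ (show (⟨y, hKY hy⟩ : Y) ∈ K.subgroupOf Y from hy))
    · intro h1 y hy
      exact Subtype.ext (h1 y hy)
  have hres := comm_of_normal h1171 hq (by
      rintro ⟨c, hc⟩
      obtain ⟨hcK, hcC⟩ := mem_inf.1 hc
      obtain ⟨k, hk⟩ := h.isPGroup_center ⟨(c : X), mem_inf.2 ⟨hcK, (hcen c).1 hcC⟩⟩
      have hk' : (c : X) ^ 2 ^ k = 1 := congrArg Subtype.val hk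
      exact ⟨k, Subtype.ext (Subtype.ext hk')⟩) T (by
      intro h0
      apply h.not_le_centralizer P
      intro x hx
      obtain ⟨hxP, hxK⟩ := mem_inf.1 hx
      apply (hcen ⟨x, hKY hxK⟩).1
      apply h0
      exact mem_inf.2 ⟨hT (by rw [mem_subgroupOf]; exact mem_sup_right hx), hxK⟩)
    (A := A.subgroupOf Y) ⟨(Subgroup.comap_mono le_sup_left).trans hT, by
      intro x hx g hg
      rw [mem_subgroupOf] at hx ⊢
      exact hA.2 x hx g (hTP _ hg)⟩ (by
      intro x hx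
      obtain ⟨hxA, hxK⟩ := mem_inf.1 hx
      exact (hcen x).2 (hAK (mem_inf.2 ⟨hxA, hxK⟩)))
  intro a ha k hk
  exact congrArg Subtype.val (hres ⟨a, hAY ha⟩ ha ⟨k, hKY hk⟩ hk)

end Ctx

end Cfsg.Agent.HexGlob.CompTools
end
end
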